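import Cfsg.Agent.Lib.G23Recog23.Model

/-!
Finite facts about `SL₂(3)` and the triples.
-/

set_option autoImplicit false

namespace Cfsg.Agent.Lib.G23Recog23

/-- Membership in the quaternion subgroup. -/
def InQ (a : SL23) : Prop := a * a * (a * a) = 1

instance (a : SL23) : Decidable (InQ a) := inferInstanceAs (Decidable (_ = _))

theorem inv_Q : ∀ p : Tri, p.2.2 = false → Same (tmul p p) tone → InQ p.1 ∧ InQ p.2.1 := by decide +kernel

theorem cube_cases : ∀ a : SL23, a * a * a = nn → (nn * a) * (nn * a) * (nn * a) = 1 := by decide +kernel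

theorem order_three : ∀ p : Tri, Same (tmul (tmul p p) p) tone →
    ∃ q, Same p q ∧ q.2.2 = false ∧ q.1 * q.1 * q.1 = 1 ∧ q.2.1 * q.2.1 * q.2.1 = 1 := by
  rintro ⟨a, b, _ | _⟩ h
  · rcases h with h | h
    · simp [tmul, tw, tone, Prod.ext_iff] at h
      exact ⟨(a, b, false), Or.inl rfl, rfl, h.1.symm, h.2.symm⟩
    · simp [tmul, tw, tone, tneg, Prod.ext_iff] at h
      have e : ∀ x : SL23, 1 = nn * x → x = nn := fun x hx => by
        calc x = nn * nn * x := by rw [show nn * nn = (1 : SL23) by decide +kernel, one_mul]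
          _ = nn := by rw [mul_assoc, ← hx, mul_one]
      exact ⟨(nn * a, nn * b, false), Or.inr rfl, rfl, cube_cases _ (e _ h.1), cube_cases _ (e _ h.2)⟩
  · rcases h with h | h <;> simp [tmul, tone, tneg, Prod.ext_iff] at h

theorem inner_invol : ∀ a b : SL23, Same (tmul (a, b, false) (a, b, false)) tone →
    Same (a, b, false) tone ∨ Same (a, b, false) (nn, 1, false) ∨
      (InQ a ∧ InQ b ∧ a * a = nn ∧ b * b = nn) := by decide +kernel

theorem partner : ∀ a : SL23, a * a = nn → ∃ c : SL23, c * c = nn ∧ InQ c ∧ c * a = nn * (a * c) := by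
  decide +kernel

theorem conj_four : ∀ a : SL23, a * a = nn → ∃ c : SL23, c * a * c⁻¹ = jj := by decide +kernel

theorem fix_Q : ∀ g f : SL23, ¬ InQ g → InQ f → (g * f * g⁻¹ = f ∨ g * f * g⁻¹ = nn * f) → f = 1 ∨ f = nn := by
  decide +kernel

theorem order_three_cases : ∀ a : SL23, a * a * a = 1 → a ≠ 1 →
    ¬ InQ a ∧ (InQ (a * uu⁻¹) ∨ InQ (a * (uu * uu)⁻¹)) := by decide +kernel

theorem outer_uu : ∀ U q q' : SL23, U * U * U = 1 → InQ q → InQ q' →
    (InQ (q' * U * (q * uu)) → InQ (U * uu)) ∧ (InQ (q' * (U * U) * (q * (uu * uu))) → InQ (U * uu)) := by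
  decide +kernel

theorem not_InQ_of_mul : ∀ U a : SL23, U * U * U = 1 → a * a * a = 1 → a ≠ 1 → U ≠ 1 →
    ¬ InQ (U * a) → InQ (U * a⁻¹) := by decide +kernel

theorem braid_uv : uu * vv⁻¹ * uu = vv⁻¹ * uu * vv⁻¹ := by decide +kernel

theorem uu_three : uu * uu * uu = 1 ∧ vv * vv * vv = 1 := by decide +kernel

theorem hom_SL23_two : nn * nn = 1 ∧ nn ≠ 1 ∧ ∀ a : SL23, a * nn = nn * a := by decide +kernel

theorem conjR_props : conjR nn = nn ∧ (∀ a, conjR (conjR a) = a) := by decide +kernel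

theorem tmul_noT : ∀ a b c d : SL23,
    tmul (a, b, false) (c, d, false) = (a * c, b * d, false) := fun _ _ _ _ => rfl

end Cfsg.Agent.Lib.G23Recog23
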