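import Cfsg.Agent.Lib.G23Recog23.Fusion

/-!
The normaliser of the four-group `⟨z, t⟩`: a rotation `ω` of order six and the reflection `τ`.
-/

set_option autoImplicit false
set_option linter.unusedSectionVars false

namespace Cfsg.Agent.Lib.G23Recog23

universe u

/-- A setup with coordinates adapted to a rotation of the normaliser of `⟨z, t⟩`. -/
structure Frame (G : Type u) [Group G] where
  S : Setup G
  ω : G
  ω6 : ω ^ 6 = 1
  ω_z : ω * S.z * ω⁻¹ = S.z * S.t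
  ω_zt : ω * (S.z * S.t) * ω⁻¹ = S.t
  ω_three : ω ^ 3 = S.Φ (nn * jj, jj, false)
  τω : S.Φ (1, jj, true) * ω * S.Φ (1, jj, true) = ω⁻¹

namespace Setup

variable {G : Type u} [Group G] (S : Setup G)

/-- Composition of the factors with `conjR`. -/
def twist (i j : Bool) : Setup G where
  e₁ := if i then S.e₁.comp conjR.toMonoidHom else S.e₁
  e₂ := if j then S.e₂.comp conjR.toMonoidHom else S.e₂
  t := S.t
  comm a b := by cases i <;> cases j <;> simp [S.comm]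
  nn_eq := by cases i <;> cases j <;> simp [S.nn_eq, conjR_props.1]
  tt := S.tt
  tconj₁ a := by cases i <;> simp [S.tconj₁]
  tconj₂ a := by cases j <;> simp [S.tconj₂]
  surj g hg := by
    obtain ⟨⟨a, b, k⟩, h⟩ := S.surj g (by cases i <;> simpa [conjR_props.1] using hg)
    refine ⟨(tw i a, tw j b, k), ?_⟩
    rw [← h]
    cases i <;> cases j <;> simp [tw, conjR_props.2]
  kernel p h := by
    obtain ⟨a, b, k⟩ := p
    have := S.kernel (tw i a, tw j b, k) (by cases i <;> cases j <;> simpa [tw] using h)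
    rcases this with h | h <;> [left; right] <;> simp [tone, tneg, Prod.ext_iff] at h ⊢ <;>
      obtain ⟨h1, h2, h3⟩ := h <;> refine ⟨?_, ?_, h3⟩
    all_goals first
      | (have := congrArg (tw i) h1; cases i <;> simpa [tw, conjR_props.1, conjR_props.2] using this)
      | (have := congrArg (tw j) h2; cases j <;> simpa [tw, conjR_props.1, conjR_props.2] using this)
  fused := by
    obtain ⟨g, hg⟩ := S.fused
    exact ⟨g, by cases i <;> simpa [conjR_props.1] using hg⟩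
  fusedInner := by
    obtain ⟨g, hg⟩ := S.fusedInner
    have hj : conjR jj = nn * jj := by decide +kernel
    cases i <;> cases j
    · exact ⟨g, by simpa using hg⟩
    · refine ⟨S.Φ (kk, 1, false) * g, ?_⟩
      simp only [if_true, if_false, Bool.false_eq_true, MonoidHom.comp_apply, MulEquiv.coe_toMonoidHom, hj]
      rw [show S.Φ (kk, 1, false) * g * S.e₁ nn * (S.Φ (kk, 1, false) * g)⁻¹ =
        S.Φ (kk, 1, false) * (g * S.e₁ nn * g⁻¹) * (S.Φ (kk, 1, false))⁻¹ by group, hg,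
        show S.e₁ jj * S.e₂ jj = S.Φ (jj, jj, false) by simp [Φ],
        show S.e₁ jj * S.e₂ (nn * jj) = S.Φ (jj, nn * jj, false) by simp [Φ], ← S.map_conj, S.eq_iff]
      decide +kernel
    · refine ⟨S.Φ (kk, 1, false) * g, ?_⟩
      simp only [if_true, if_false, Bool.false_eq_true, MonoidHom.comp_apply, MulEquiv.coe_toMonoidHom, hj,
        conjR_props.1]
      rw [show S.Φ (kk, 1, false) * g * S.e₁ nn * (S.Φ (kk, 1, false) * g)⁻¹ =
        S.Φ (kk, 1, false) * (g * S.e₁ nn * g⁻¹) * (S.Φ (kk, 1, false))⁻¹ by group, hg,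
        show S.e₁ jj * S.e₂ jj = S.Φ (jj, jj, false) by simp [Φ],
        show S.e₁ (nn * jj) * S.e₂ jj = S.Φ (nn * jj, jj, false) by simp [Φ], ← S.map_conj, S.eq_iff]
      decide +kernel
    · refine ⟨g, ?_⟩
      simp only [if_true, MonoidHom.comp_apply, MulEquiv.coe_toMonoidHom, hj, conjR_props.1]
      rw [hg, show S.e₁ jj * S.e₂ jj = S.Φ (jj, jj, false) by simp [Φ],
        show S.e₁ (nn * jj) * S.e₂ (nn * jj) = S.Φ (nn * jj, nn * jj, false) by simp [Φ], S.eq_iff]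
      decide +kernel

theorem twist_Φ (i j : Bool) (p : Tri) : (S.twist i j).Φ p = S.Φ (tw i p.1, tw j p.2.1, p.2.2) := by
  cases i <;> cases j <;> rfl

theorem twist_z (i j : Bool) : (S.twist i j).z = S.z := by
  show (S.twist i j).e₁ nn = S.e₁ nn
  cases i <;> simp [twist, conjR_props.1]

theorem mem_W {g : G} (hz : g * S.z = S.z * g) (ht : g * S.t = S.t * g) : ∃ q ∈ Wlist, S.Φ q = g := by
  obtain ⟨p, rfl⟩ := S.exists_tri hz
  rw [S.t_eq] at ht
  obtain ⟨q, hq, hs⟩ := mem_Wlist (S.comm_iff.1 ht)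
  exact ⟨q, hq, (S.eq_of_same hs).symm⟩

/-- The four-group. -/
def InV (g : G) : Prop := g = 1 ∨ g = S.z ∨ g = S.t ∨ g = S.z * S.t

theorem InV_iff {g : G} : S.InV g ↔
    ∃ q ∈ ([tone, (nn, 1, false), (1, 1, true), (nn, 1, true)] : List Tri), S.Φ q = g := by
  simp only [List.mem_cons, List.not_mem_nil, or_false, exists_eq_or_imp, exists_eq_left, S.map_one', ← S.z_eq,
    ← S.t_eq, show S.Φ (nn, 1, true) = S.z * S.t by simp [Φ, z], InV]
  constructor
  · rintro (h | h | h | h) <;> simp [h]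
  · rintro (h | h | h | h) <;> simp [h]

theorem InV.comm {g : G} (h : S.InV g) : g * S.z = S.z * g ∧ g * S.t = S.t * g := by
  rcases h with rfl | rfl | rfl | rfl
  · simp
  · simp [S.t_comm_z]
  · simp [S.t_comm_z]
  · constructor
    · rw [mul_assoc, S.t_comm_z]
    · rw [← mul_assoc S.t, S.t_comm_z]

theorem InV.mul {g h : G} (hg : S.InV g) (hh : S.InV h) : S.InV (g * h) := by
  obtain ⟨p, hp, rfl⟩ := S.InV_iff.1 hg
  obtain ⟨r, hr, rfl⟩ := S.InV_iff.1 hh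
  have key : ∀ p ∈ ([tone, (nn, 1, false), (1, 1, true), (nn, 1, true)] : List Tri),
      ∀ r ∈ ([tone, (nn, 1, false), (1, 1, true), (nn, 1, true)] : List Tri),
        ∃ s ∈ ([tone, (nn, 1, false), (1, 1, true), (nn, 1, true)] : List Tri), Same s (tmul p r) := by
    decide +kernel
  obtain ⟨s, hs, e⟩ := key p hp r hr
  rw [← S.map_mul']
  exact S.InV_iff.2 ⟨s, hs, S.eq_of_same e⟩

theorem InV.sq {g : G} (hg : S.InV g) : g * g = 1 := by
  obtain ⟨p, hp, rfl⟩ := S.InV_iff.1 hg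
  rw [← S.map_mul', ← S.map_one', S.eq_iff]
  clear hg
  revert p
  decide +kernel

theorem InV.inv {g : G} (hg : S.InV g) : S.InV g⁻¹ := by rwa [inv_eq_of_mul_eq_one_right (InV.sq S hg)]

theorem exists_rot : ∃ g : G, g * S.z * g⁻¹ = S.t ∧ g * S.t * g⁻¹ = S.z * S.t := by
  obtain ⟨g₀, hg₀⟩ := S.fused
  rw [← z] at hg₀
  set v := g₀⁻¹ * (S.z * S.t) * g₀ with hv
  have hzt2 : S.z * S.t * (S.z * S.t) = 1 := by
    rw [show S.z * S.t * (S.z * S.t) = S.z * (S.t * S.z) * S.t by group, S.t_comm_z,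
      show S.z * (S.z * S.t) * S.t = (S.z * S.z) * (S.t * S.t) by group, S.z_sq, S.tt, one_mul]
  have hcomm : v * S.z = S.z * v := by
    have e : g₀⁻¹ * S.t * g₀ = S.z := by rw [← hg₀]; group
    calc v * S.z = g₀⁻¹ * (S.z * S.t) * g₀ * (g₀⁻¹ * S.t * g₀) := by rw [e]
      _ = g₀⁻¹ * (S.z * S.t * S.t) * g₀ := by group
      _ = g₀⁻¹ * (S.t * (S.z * S.t)) * g₀ := by rw [← mul_assoc S.t, S.t_comm_z]
      _ = (g₀⁻¹ * S.t * g₀) * v := by rw [hv]; group
      _ = S.z * v := by rw [e]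
  have hvz : v ≠ S.z := fun h => by
    have e : S.z * S.t = S.t := by
      calc S.z * S.t = g₀ * v * g₀⁻¹ := by rw [hv]; group
        _ = S.t := by rw [h, hg₀]
    exact S.z_ne (mul_right_cancel (b := S.t) (by rw [e, one_mul]))
  have hv1 : v ≠ 1 := fun h => by
    have e : S.z * S.t = 1 := by
      calc S.z * S.t = g₀ * v * g₀⁻¹ := by rw [hv]; group
        _ = 1 := by rw [h]; group
    have := eq_inv_of_mul_eq_one_right e
    rw [S.inv_z] at this
    exact S.t_ne.2 this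
  have hv2 : v * v = 1 := by
    rw [hv, show g₀⁻¹ * (S.z * S.t) * g₀ * (g₀⁻¹ * (S.z * S.t) * g₀) =
      g₀⁻¹ * (S.z * S.t * (S.z * S.t)) * g₀ by group, hzt2]; group
  rcases S.involution_cases hcomm hv2 hv1 with h | ⟨p, hp⟩ | ⟨p, hp⟩
  · exact absurd h hvz
  · refine ⟨g₀ * (S.Φ p)⁻¹, ?_, ?_⟩
    · rw [show g₀ * (S.Φ p)⁻¹ * S.z * (g₀ * (S.Φ p)⁻¹)⁻¹ = g₀ * ((S.Φ p)⁻¹ * (S.z * S.Φ p)) * g₀⁻¹ by group,
        ← S.comm_z, inv_mul_cancel_left, hg₀]
    · rw [show g₀ * (S.Φ p)⁻¹ * S.t * (g₀ * (S.Φ p)⁻¹)⁻¹ = g₀ * ((S.Φ p)⁻¹ * S.t * S.Φ p) * g₀⁻¹ by group,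
        show (S.Φ p)⁻¹ * S.t * S.Φ p = v by rw [← hp]; group, hv]
      group
  · exfalso
    set k := g₀ * (S.Φ p)⁻¹ with hk
    have kz : k * S.z * k⁻¹ = S.t := by
      rw [hk, show g₀ * (S.Φ p)⁻¹ * S.z * (g₀ * (S.Φ p)⁻¹)⁻¹ = g₀ * ((S.Φ p)⁻¹ * (S.z * S.Φ p)) * g₀⁻¹ by group,
        ← S.comm_z, inv_mul_cancel_left, hg₀]
    have kw : k * S.Φ (jj, jj, false) * k⁻¹ = S.z * S.t := by rw [← hp, hk, hv]; group
    have inW : ∀ q : Tri, TComm q (jj, jj, false) → ∃ r ∈ Wlist, S.Φ r = k * S.Φ q * k⁻¹ := fun q hq => by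
      have c1 : Commute (k * S.Φ q * k⁻¹) S.t := by rw [← kz]; exact Commute.conj_iff k |>.2 (S.comm_z q)
      have c2 : Commute (k * S.Φ q * k⁻¹) (S.z * S.t) := by
        rw [← kw]; exact Commute.conj_iff k |>.2 (S.comm_iff.2 hq)
      refine S.mem_W ?_ c1.eq
      have := c2.mul_right c1
      rw [show S.z * S.t * S.t = S.z by rw [mul_assoc, S.tt, mul_one]] at this
      exact this.eq
    obtain ⟨r, hr, er⟩ := inW (jj, 1, false) (by decide +kernel)
    obtain ⟨r', hr', er'⟩ := inW (kk, kk, false) (by decide +kernel)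
    have hc : S.Φ r * S.Φ r' = S.Φ r' * S.Φ r := S.comm_iff.2 ((W_facts r hr).2 r' hr')
    rw [er, er'] at hc
    have hc' : Commute (S.Φ (jj, 1, false)) (S.Φ (kk, kk, false)) := (Commute.conj_iff k).1 hc
    have := S.comm_iff.1 hc'.eq
    revert this
    decide +kernel

theorem exists_frame (S : Setup G) : ∃ _F : Frame G, True := by
  classical
  obtain ⟨g, gz, gt⟩ := S.exists_rot
  have mh : ∀ a b h : G, h * (a * b) * h⁻¹ = (h * a * h⁻¹) * (h * b * h⁻¹) := fun a b h => by group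
  have Tz : S.t * (S.z * S.t) = S.z := by rw [← mul_assoc, S.t_comm_z, mul_assoc, S.tt, mul_one]
  have gzt : g * (S.z * S.t) * g⁻¹ = S.z := by rw [mh, gz, gt, Tz]
  have g3z : (g * g * g) * S.z * (g * g * g)⁻¹ = S.z := by
    rw [show g * g * g * S.z * (g * g * g)⁻¹ = g * (g * (g * S.z * g⁻¹) * g⁻¹) * g⁻¹ by group, gz, gt, gzt]
  have g3t : (g * g * g) * S.t * (g * g * g)⁻¹ = S.t := by
    rw [show g * g * g * S.t * (g * g * g)⁻¹ = g * (g * (g * S.t * g⁻¹) * g⁻¹) * g⁻¹ by group, gt, gzt, gz]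
  obtain ⟨q3, hq3, e3⟩ := S.mem_W (mul_inv_eq_iff_eq_mul.1 g3z) (mul_inv_eq_iff_eq_mul.1 g3t)
  have g6 : g * g * g * (g * g * g) = 1 := by
    rw [← e3, ← S.map_mul', ← S.map_one', S.eq_iff]; exact (W_facts q3 hq3).1
  set ρ := g * g * g * g with hρ
  have ρz : ρ * S.z * ρ⁻¹ = S.t := by
    rw [hρ, show g * g * g * g * S.z * (g * g * g * g)⁻¹ = g * g * g * (g * S.z * g⁻¹) * (g * g * g)⁻¹ by group,
      gz, g3t]
  have ρt : ρ * S.t * ρ⁻¹ = S.z * S.t := by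
    rw [hρ, show g * g * g * g * S.t * (g * g * g * g)⁻¹ = g * g * g * (g * S.t * g⁻¹) * (g * g * g)⁻¹ by group,
      gt, mh, g3z, g3t]
  have ρzt : ρ * (S.z * S.t) * ρ⁻¹ = S.z := by rw [mh, ρz, ρt, Tz]
  have ρ3 : ρ * ρ * ρ = 1 := by
    calc ρ * ρ * ρ = (g * g * g * (g * g * g)) * (g * g * g * (g * g * g)) := by rw [hρ]; group
      _ = 1 := by rw [g6, one_mul]
  have ρi : ρ⁻¹ = ρ * ρ := inv_eq_of_mul_eq_one_right (by rw [← mul_assoc]; exact ρ3)
  have fz : ∀ {a b : G}, ρ * a * ρ⁻¹ = b → ρ⁻¹ * b * ρ = a := by rintro a b rfl; group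
  have norm : ∀ v, S.InV v → v * (ρ * v * ρ⁻¹) * (ρ * (ρ * v * ρ⁻¹) * ρ⁻¹) = 1 := by
    rintro v (rfl | rfl | rfl | rfl)
    · simp
    · rw [ρz, ρt, mul_assoc, Tz, S.z_sq]
    · rw [ρt, ρzt, show S.t * (S.z * S.t) = S.z from Tz, S.z_sq]
    · rw [ρzt, ρz, mul_assoc, mul_assoc, ← mul_assoc S.t S.z, S.t_comm_z, mul_assoc S.z S.t, S.tt, mul_one, S.z_sq]
  have Vρ : ∀ v, S.InV v → S.InV (ρ * v * ρ⁻¹) := by
    rintro v (rfl | rfl | rfl | rfl)
    · left; simp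
    · right; right; left; exact ρz
    · right; right; right; exact ρt
    · right; left; exact ρzt
  -- the fixed point
  have Vmul : ∀ {v}, S.InV v → v * v = 1 := by
    rintro v (rfl | rfl | rfl | rfl)
    · simp
    · exact S.z_sq
    · exact S.tt
    · rw [mul_assoc, Tz, S.z_sq]
  set w := S.Φ (jj, jj, false) with hw
  have w_t : w * S.t = S.t * w := by rw [hw, S.t_eq, S.comm_iff]; decide +kernel
  have w_z : w * S.z = S.z * w := by rw [hw, S.comm_z]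
  have cw_zt : Commute w (S.z * S.t) := Commute.mul_right w_z w_t
  have hρw1 : (ρ * w * ρ⁻¹) * S.t = S.t * (ρ * w * ρ⁻¹) := by
    conv_lhs => rw [← ρz]
    conv_rhs => rw [← ρz]
    exact ((Commute.conj_iff ρ).2 w_z).eq
  have hρw2 : (ρ * w * ρ⁻¹) * S.z = S.z * (ρ * w * ρ⁻¹) := by
    conv_lhs => rw [← ρzt]
    conv_rhs => rw [← ρzt]
    exact ((Commute.conj_iff ρ).2 cw_zt).eq
  obtain ⟨qw, hqw, eqw⟩ := S.mem_W hρw2 hρw1
  obtain ⟨v, hv, ev⟩ : ∃ v, S.InV v ∧ ρ * w * ρ⁻¹ = w * v := by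
    rcases W_split qw hqw with ⟨q, hq, hs⟩ | ⟨q, hq, hs⟩
    · exfalso
      have hV : S.InV (ρ * w * ρ⁻¹) := S.InV_iff.2 ⟨q, hq, by rw [← eqw, S.eq_of_same hs]⟩
      have hwV : S.InV w := by
        have h2 := Vρ _ (Vρ _ hV)
        rwa [show ρ * (ρ * (ρ * w * ρ⁻¹) * ρ⁻¹) * ρ⁻¹ = (ρ * ρ * ρ) * w * (ρ * ρ * ρ)⁻¹ by group, ρ3, one_mul,
          inv_one, mul_one] at h2
      obtain ⟨q', hq', e'⟩ := S.InV_iff.1 hwV
      exact jj_not_V q' hq' (S.same_of_eq e'.symm)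
    · exact ⟨S.Φ q, S.InV_iff.2 ⟨q, hq, rfl⟩, by rw [← eqw, S.eq_of_same hs, S.map_mul']⟩
  set v' := ρ * v * ρ⁻¹ with hv'
  set c := w * v' with hc
  have hv'V := Vρ v hv
  have cρ : ρ * c * ρ⁻¹ = c := by
    rw [hc, mh, ev]
    have hn := norm v hv
    have e2 : v * (ρ * v' * ρ⁻¹) = v' := by
      have h1 := (InV.comm S hv).1; have h2 := (InV.comm S hv).2
      have hh := Vρ v' hv'V
      have cm : Commute v v' := by
        rcases hv'V with h | h | h | h <;> rw [hv', h]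
        · exact Commute.one_right v
        · exact h1
        · exact h2
        · exact Commute.mul_right h1 h2
      calc v * (ρ * v' * ρ⁻¹) = (v' * v') * (v * (ρ * v' * ρ⁻¹)) := by rw [Vmul hv'V, one_mul]
        _ = v' * ((v' * v) * (ρ * v' * ρ⁻¹)) := by group
        _ = v' := by rw [← cm.eq, hn, mul_one]
    rw [mul_assoc, e2]
  obtain ⟨qv, hqv, eqv⟩ := S.InV_iff.1 hv'V
  -- the reflection
  set x₀ := S.Φ (1, jj, true) with hx₀
  have x₀sq : x₀ * x₀ = 1 := by rw [hx₀, ← S.map_mul', ← S.map_one', S.eq_iff]; decide +kernel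
  have x₀i : x₀⁻¹ = x₀ := inv_eq_of_mul_eq_one_right x₀sq
  have x₀t : x₀ * S.t * x₀⁻¹ = S.z * S.t := by
    rw [hx₀, S.t_eq, S.z_eq, ← S.map_conj, ← S.map_mul', S.eq_iff]; decide +kernel
  have x₀z : x₀ * S.z * x₀⁻¹ = S.z := S.conj_z _
  have x₀zt : x₀ * (S.z * S.t) * x₀⁻¹ = S.t := by
    rw [mh, x₀z, x₀t, ← mul_assoc, S.z_sq, one_mul]
  set ρ' := x₀ * ρ * x₀⁻¹ with hρ'
  set a := ρ' * ρ with ha
  have ρ'c : ∀ u, ρ' * u * ρ'⁻¹ = x₀ * (ρ * (x₀⁻¹ * u * x₀) * ρ⁻¹) * x₀⁻¹ := fun u => by rw [hρ']; group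
  have xz' : x₀⁻¹ * S.z * x₀ = S.z := by have := x₀z; rwa [x₀i] at this ⊢
  have xt' : x₀⁻¹ * S.t * x₀ = S.z * S.t := by have := x₀t; rwa [x₀i] at this ⊢
  have az : a * S.z * a⁻¹ = S.z := by
    rw [ha, show ρ' * ρ * S.z * (ρ' * ρ)⁻¹ = ρ' * (ρ * S.z * ρ⁻¹) * ρ'⁻¹ by group, ρz, ρ'c, xt', ρzt, x₀z]
  have at' : a * S.t * a⁻¹ = S.t := by
    rw [ha, show ρ' * ρ * S.t * (ρ' * ρ)⁻¹ = ρ' * (ρ * S.t * ρ⁻¹) * ρ'⁻¹ by group, ρt, ρ'c]
    rw [show x₀⁻¹ * (S.z * S.t) * x₀ = S.t by have := x₀zt; rwa [x₀i] at this ⊢, ρt, x₀zt]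
  have ρ'3 : ρ' * ρ' * ρ' = 1 := by
    rw [hρ', show x₀ * ρ * x₀⁻¹ * (x₀ * ρ * x₀⁻¹) * (x₀ * ρ * x₀⁻¹) = x₀ * (ρ * ρ * ρ) * x₀⁻¹ by group, ρ3,
      mul_one, mul_inv_cancel]
  obtain ⟨qa, hqa, eqa⟩ := S.mem_W (mul_inv_eq_iff_eq_mul.1 az) (mul_inv_eq_iff_eq_mul.1 at')
  have na : a * (ρ⁻¹ * a * ρ) * (ρ⁻¹ * (ρ⁻¹ * a * ρ) * ρ) = 1 := by
    rw [ha]
    calc _ = ρ' * ρ * ρ⁻¹ * ρ' * ρ * ρ * ρ⁻¹ * ρ⁻¹ * ρ' * ρ * ρ * ρ := by group
      _ = ρ' * ρ' * ρ' * (ρ * ρ * ρ) := by group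
      _ = 1 := by rw [ρ'3, ρ3, one_mul]
  have aV : S.InV a := by
    rcases W_split qa hqa with ⟨q, hq, hs⟩ | ⟨q, hq, hs⟩
    · exact S.InV_iff.2 ⟨q, hq, by rw [← eqa, S.eq_of_same hs]⟩
    · exfalso
      have hu : S.InV (S.Φ q) := S.InV_iff.2 ⟨q, hq, rfl⟩
      set u := v'⁻¹ * S.Φ q with hu'
      have huV : S.InV u := InV.mul S (InV.inv S hv'V) hu
      have hau : a = c * u := by rw [← eqa, S.eq_of_same hs, S.map_mul', hc, hu', ← hw]; group
      have hc2 : ρ⁻¹ * c * ρ = c := fz cρ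
      have hu1 : S.InV (ρ⁻¹ * u * ρ) := by
        have := Vρ _ (Vρ _ huV)
        rwa [show ρ * (ρ * u * ρ⁻¹) * ρ⁻¹ = (ρ * ρ) * u * (ρ * ρ)⁻¹ by group, ← ρi, inv_inv] at this
      have cm : ∀ e, S.InV e → Commute c e := by
        have cz : Commute c S.z := (Commute.mul_left w_z (InV.comm S hv'V).1)
        have ct : Commute c S.t := (Commute.mul_left w_t (InV.comm S hv'V).2)
        rintro e (rfl | rfl | rfl | rfl)
        · exact Commute.one_right c
        · exact cz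
        · exact ct
        · exact cz.mul_right ct
      have hu2 : S.InV (ρ⁻¹ * (ρ⁻¹ * u * ρ) * ρ) := by
        have := Vρ u huV
        rwa [show ρ⁻¹ * (ρ⁻¹ * u * ρ) * ρ = ρ * u * ρ⁻¹ by
          rw [ρi]; calc
            ρ * ρ * (ρ * ρ * u * ρ) * ρ = (ρ * ρ * ρ) * ρ * u * (ρ * ρ) := by group
            _ = _ := by rw [ρ3, one_mul]]
      have h3 : ρ⁻¹ * a * ρ = c * (ρ⁻¹ * u * ρ) := by
        rw [hau]; nth_rw 2 [← hc2]; group
      have h4 : ρ⁻¹ * (ρ⁻¹ * a * ρ) * ρ = c * (ρ⁻¹ * (ρ⁻¹ * u * ρ) * ρ) := by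
        rw [h3]; nth_rw 2 [← hc2]; group
      rw [h4, h3, hau] at na
      have e1 : c * u * (c * (ρ⁻¹ * u * ρ)) * (c * (ρ⁻¹ * (ρ⁻¹ * u * ρ) * ρ)) =
          (c * c * c) * (u * (ρ⁻¹ * u * ρ) * (ρ⁻¹ * (ρ⁻¹ * u * ρ) * ρ)) := by
        calc _ = c * (u * c) * ((ρ⁻¹ * u * ρ) * c) * (ρ⁻¹ * (ρ⁻¹ * u * ρ) * ρ) := by group
          _ = c * (c * u) * (c * (ρ⁻¹ * u * ρ)) * (ρ⁻¹ * (ρ⁻¹ * u * ρ) * ρ) := by
            rw [(cm u huV).eq, (cm _ hu1).eq]
          _ = c * c * (u * c) * (ρ⁻¹ * u * ρ) * (ρ⁻¹ * (ρ⁻¹ * u * ρ) * ρ) := by group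
          _ = _ := by rw [← (cm u huV).eq]; group
      rw [e1] at na
      have hn2 : u * (ρ⁻¹ * u * ρ) * (ρ⁻¹ * (ρ⁻¹ * u * ρ) * ρ) = 1 := by
        rcases huV with h | h | h | h <;> rw [h]
        · simp
        · rw [fz ρzt, fz ρt, mul_assoc, show S.z * S.t * S.t = S.z by rw [mul_assoc, S.tt, mul_one], S.z_sq]
        · rw [fz ρz, fz ρzt, ← mul_assoc, S.t_comm_z, mul_assoc]
          exact Vmul (Or.inr (Or.inr (Or.inr rfl)))
        · rw [fz ρt, fz ρz, mul_assoc S.z S.t S.t, S.tt, mul_one, S.z_sq]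
      rw [hn2, mul_one] at na
      have cc : c * c = 1 := by
        rw [hc, show w * v' * (w * v') = w * (v' * w) * v' by group,
          (Commute.symm (show Commute w v' by
            rcases hv'V with h | h | h | h <;> rw [hv', h]
            · exact Commute.one_right w
            · exact w_z
            · exact w_t
            · exact cw_zt)).eq,
          show w * (w * v') * v' = (w * w) * (v' * v') by group, Vmul hv'V, mul_one, hw, ← S.map_mul',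
          ← S.map_one', S.eq_iff]
        decide +kernel
      rw [cc, one_mul] at na
      have : S.InV w := by
        have : w = v' := by
          calc w = c * v'⁻¹ := by rw [hc]; group
            _ = v' := by rw [na, one_mul, inv_eq_of_mul_eq_one_right (Vmul hv'V)]
        rw [this]; exact hv'V
      obtain ⟨q', hq', e'⟩ := S.InV_iff.1 this
      exact jj_not_V q' hq' (S.same_of_eq e'.symm)
  set b := ρ⁻¹ * a * ρ with hb
  have bb : b * b = 1 := by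
    rw [hb, show ρ⁻¹ * a * ρ * (ρ⁻¹ * a * ρ) = ρ⁻¹ * (a * a) * ρ by group, Vmul aV]; group
  set x := b * x₀ with hx
  have bV : S.InV b := by
    have := Vρ _ (Vρ _ aV)
    rwa [show ρ * (ρ * a * ρ⁻¹) * ρ⁻¹ = (ρ * ρ) * a * (ρ * ρ)⁻¹ by group, ← ρi, inv_inv, ← hb] at this
  have xρ : x * ρ * x⁻¹ = ρ⁻¹ := by
    have h1 : x * ρ * x⁻¹ = b * a * (ρ⁻¹ * b * ρ) * ρ⁻¹ := by
      rw [hx, ha]
      calc b * x₀ * ρ * (b * x₀)⁻¹ = b * (x₀ * ρ * x₀⁻¹) * b⁻¹ := by group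
        _ = b * ρ' * b := by rw [hρ', inv_eq_of_mul_eq_one_right bb]
        _ = _ := by group
    have hn : b * a * (ρ⁻¹ * b * ρ) = 1 := by
      have h2 : a * b = b * a := by
        rcases bV with h | h | h | h <;> rw [h]
        · simp
        · exact mul_inv_eq_iff_eq_mul.1 az
        · exact mul_inv_eq_iff_eq_mul.1 at'
        · exact (Commute.mul_right (mul_inv_eq_iff_eq_mul.1 az) (mul_inv_eq_iff_eq_mul.1 at')).eq
      rw [← h2]
      simpa [hb] using na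
    rw [h1, hn, one_mul]
  have bz : b * S.z * b⁻¹ = S.z := mul_inv_eq_iff_eq_mul.2 (InV.comm S bV).1
  have bt : b * S.t * b⁻¹ = S.t := mul_inv_eq_iff_eq_mul.2 (InV.comm S bV).2
  obtain ⟨px, hpx⟩ := S.exists_tri (g := x) (by
    rw [← mul_inv_eq_iff_eq_mul, hx,
      show b * x₀ * S.z * (b * x₀)⁻¹ = b * (x₀ * S.z * x₀⁻¹) * b⁻¹ by group, x₀z, bz])
  have hxt : x * S.t * x⁻¹ = S.z * S.t := by
    rw [hx, show b * x₀ * S.t * (b * x₀)⁻¹ = b * (x₀ * S.t * x₀⁻¹) * b⁻¹ by group, x₀t, mh, bz, bt]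
  obtain ⟨qx, hqx, hsx⟩ := mem_Xlist (p := px) (by
    refine S.same_of_eq ?_
    rw [S.map_conj, hpx, ← S.t_eq, hxt]; simp [Φ, z])
  have eqx : S.Φ qx = x := (S.eq_of_same hsx).symm.trans hpx
  have x_inv2 : x * x * ρ * (x * x)⁻¹ = ρ := by
    rw [show x * x * ρ * (x * x)⁻¹ = x * (x * ρ * x⁻¹) * x⁻¹ by group, xρ,
      show x * ρ⁻¹ * x⁻¹ = (x * ρ * x⁻¹)⁻¹ by group, xρ, inv_inv]
  have xx : x * x = 1 := by
    rcases X_sq qx hqx with h | h
    · rw [← eqx, ← S.map_mul', S.eq_of_same h, S.map_one']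
    · exfalso
      rw [← eqx, ← S.map_mul', S.eq_of_same h, ← S.z_eq, mul_inv_eq_iff_eq_mul] at x_inv2
      have := mul_inv_eq_iff_eq_mul.1 ρz
      rw [← x_inv2] at this
      exact S.t_ne.2 (mul_right_cancel this).symm
  have xi : x⁻¹ = x := inv_eq_of_mul_eq_one_right xx
  -- x fixes c
  have cwv : c = S.Φ (tmul (jj, jj, false) qv) := by rw [hc, S.map_mul', eqv, hw]
  have cqv : TComm qx (tmul (jj, jj, false) qv) := by
    rw [← S.comm_iff, eqx, ← cwv, ← mul_inv_eq_iff_eq_mul]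
    set c' := x * c * x⁻¹ with hc'
    have c'ρ : ρ * c' * ρ⁻¹ = c' := by
      have h2 : ρ⁻¹ * c * ρ = c := fz cρ
      calc ρ * c' * ρ⁻¹ = (x * ρ * x⁻¹)⁻¹ * c' * (x * ρ * x⁻¹) := by rw [xρ, inv_inv]
        _ = x * (ρ⁻¹ * c * ρ) * x⁻¹ := by rw [hc']; group
        _ = c' := by rw [h2, hc']
    have cC : c * S.z = S.z * c ∧ c * S.t = S.t * c :=
      ⟨(Commute.mul_left w_z (InV.comm S hv'V).1).eq, (Commute.mul_left w_t (InV.comm S hv'V).2).eq⟩
    obtain ⟨q', hq', e'⟩ : ∃ q ∈ Wlist, S.Φ q = c' := by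
      have xz : x * S.z * x⁻¹ = S.z := by
        rw [hx, show b * x₀ * S.z * (b * x₀)⁻¹ = b * (x₀ * S.z * x₀⁻¹) * b⁻¹ by group, x₀z, bz]
      have xzt : x * (S.z * S.t) * x⁻¹ = S.t := by rw [mh, xz, hxt, ← mul_assoc, S.z_sq, one_mul]
      refine S.mem_W ?_ ?_
      · rw [hc']; conv_lhs => rw [← xz]
        conv_rhs => rw [← xz]
        exact ((Commute.conj_iff x).2 cC.1).eq
      · rw [hc']; conv_lhs => rw [← xzt]
        conv_rhs => rw [← xzt]
        exact ((Commute.conj_iff x).2 (Commute.mul_right cC.1 cC.2)).eq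
    set d := c⁻¹ * c' with hd
    have dρ : ρ * d * ρ⁻¹ = d := by
      rw [hd, mh, c'ρ, show ρ * c⁻¹ * ρ⁻¹ = (ρ * c * ρ⁻¹)⁻¹ by group, cρ]
    obtain ⟨qd, hqd, eqd⟩ : ∃ q ∈ Wlist, S.Φ q = d := by
      refine S.mem_W (Commute.mul_left (Commute.inv_left cC.1) ?_).eq (Commute.mul_left (Commute.inv_left cC.2) ?_).eq
      · rw [← e']; exact S.comm_z _
      · have hT : ∀ q ∈ Wlist, TComm q (1, 1, true) := by decide +kernel
        rw [← e', S.t_eq]; exact S.comm_iff.2 (hT q' hq')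
    rcases W_split qd hqd with ⟨q, hq, hs⟩ | ⟨q, hq, hs⟩
    · have dV : S.InV d := S.InV_iff.2 ⟨q, hq, by rw [← eqd, S.eq_of_same hs]⟩
      have d1 : d = 1 := by
        rcases dV with h | h | h | h
        · exact h
        · rw [h, ρz] at dρ; exact absurd dρ S.t_ne.2
        · rw [h, ρt] at dρ
          exact absurd (mul_eq_right.1 dρ) S.z_ne
        · rw [h, ρzt] at dρ
          exact S.t_ne.1.elim (mul_eq_left.1 dρ.symm)
      rw [hd, inv_mul_eq_one] at d1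
      exact d1.symm
    · exfalso
      have h1 : S.InV c' := by
        have hq' : S.InV (S.Φ q) := S.InV_iff.2 ⟨q, hq, rfl⟩
        have e : c' = (v' * (w * w) * S.Φ q) := by
          have : d = w * S.Φ q := by rw [← eqd, S.eq_of_same hs, S.map_mul', hw]
          calc c' = c * d := by rw [hd]; group
            _ = w * (v' * w) * S.Φ q := by rw [this, hc]; group
            _ = _ := by
              rw [(show Commute v' w from by
                rcases hv'V with h | h | h | h <;> rw [hv', h]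
                · exact Commute.one_left w
                · exact Commute.symm w_z
                · exact Commute.symm w_t
                · exact cw_zt.symm).eq]
              rw [show w * (w * v') = (w * w) * v' by group,
                show w * w = 1 by rw [hw, ← S.map_mul', ← S.map_one', S.eq_iff]; decide +kernel]
              simp
        rw [show w * w = 1 by rw [hw, ← S.map_mul', ← S.map_one', S.eq_iff]; decide +kernel, mul_one] at e
        rw [e]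
        exact InV.mul S hv'V hq'
      have : S.InV c := by
        have hcx : c = x⁻¹ * c' * x := by rw [hc']; group
        rw [hcx, xi]
        rcases h1 with h | h | h | h <;> rw [h]
        · left; rw [mul_one, xx]
        · right; left
          nth_rw 2 [← xi]
          rw [hx, show b * x₀ * S.z * (b * x₀)⁻¹ = b * (x₀ * S.z * x₀⁻¹) * b⁻¹ by group, x₀z, bz]
        · right; right; right; nth_rw 2 [← xi]; exact hxt
        · right; right; left
          nth_rw 2 [← xi]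
          rw [mh, hxt, show x * S.z * x⁻¹ = S.z by
            rw [hx, show b * x₀ * S.z * (b * x₀)⁻¹ = b * (x₀ * S.z * x₀⁻¹) * b⁻¹ by group, x₀z, bz], ← mul_assoc,
            S.z_sq, one_mul]
      have hwV : S.InV w := by
        have : w = c * v' := by rw [hc, mul_assoc, Vmul hv'V, mul_one]
        rw [this]
        exact InV.mul S ‹S.InV c› hv'V
      obtain ⟨q', hq', e'⟩ := S.InV_iff.1 hwV
      exact jj_not_V q' hq' (S.same_of_eq e'.symm)
  obtain ⟨r, hr, hcr, s, hs, hxs⟩ := X_norm qx hqx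
    (S.same_of_eq (by rw [S.map_mul', eqx, xx, S.map_one'])) qv hqv cqv
  have ec : c = S.Φ r := cwv.trans (S.eq_of_same hcr)
  obtain ⟨τ, hτρ, hτs⟩ : ∃ τ, τ * ρ * τ⁻¹ = ρ⁻¹ ∧ τ = S.Φ s := by
    rcases hxs with h | h
    · exact ⟨x, xρ, by rw [← eqx, S.eq_of_same h]⟩
    · refine ⟨x * c, ?_, by rw [← eqx, ec, ← S.map_mul', S.eq_of_same h]⟩
      rw [show x * c * ρ * (x * c)⁻¹ = x * (c * ρ * c⁻¹) * x⁻¹ by group,
        show c * ρ * c⁻¹ = ρ by rw [mul_inv_eq_iff_eq_mul]; exact (mul_inv_eq_iff_eq_mul.1 cρ).symm, xρ]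
  simp only [List.mem_cons, List.not_mem_nil, or_false] at hr hs
  let j : Bool := decide (s = (1, nn * jj, true))
  let i : Bool := decide (r = (jj, jj, false)) != j
  let S' := S.twist i j
  have es : S'.Φ (1, jj, true) = S.Φ s := by
    rw [S.twist_Φ]
    rcases hs with rfl | rfl <;> simp only [j, i] <;> rcases hr with rfl | rfl <;> rw [S.eq_iff] <;> decide +kernel
  have er : S'.Φ (nn * jj, jj, false) = S.Φ r := by
    rw [S.twist_Φ]
    rcases hs with rfl | rfl <;> simp only [j, i] <;> rcases hr with rfl | rfl <;> rw [S.eq_iff] <;> decide +kernel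
  set ω := c * (ρ * ρ) with hω
  have cρ' : Commute c ρ := (mul_inv_eq_iff_eq_mul.1 cρ).symm
  have c2 : c * c = 1 := by
    rw [ec, ← S.map_mul', ← S.map_one', S.eq_iff]
    rcases hr with rfl | rfl <;> decide +kernel
  have ω3 : ω ^ 3 = c := by
    rw [hω, (cρ'.mul_right cρ').mul_pow, pow_three, pow_three, c2, mul_one,
      show ρ * ρ * (ρ * ρ * (ρ * ρ)) = (ρ * ρ * ρ) * (ρ * ρ * ρ) by group, ρ3, one_mul, mul_one]
  have czc : Commute c S.z ∧ Commute c S.t :=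
    ⟨Commute.mul_left w_z (InV.comm S hv'V).1, Commute.mul_left w_t (InV.comm S hv'V).2⟩
  refine ⟨⟨S', ω, ?_, ?_, ?_, ?_, ?_⟩, trivial⟩
  · rw [show 6 = 3 + 3 by norm_num, pow_add, ω3, c2]
  · rw [S.twist_z, hω, show c * (ρ * ρ) * S.z * (c * (ρ * ρ))⁻¹ = c * (ρ * (ρ * S.z * ρ⁻¹) * ρ⁻¹) * c⁻¹ by group,
      ρz, ρt, (czc.1.mul_right czc.2).eq, mul_inv_cancel_right]
    rfl
  · rw [S.twist_z]
    show ω * (S.z * S.t) * ω⁻¹ = S.t
    rw [hω, show c * (ρ * ρ) * (S.z * S.t) * (c * (ρ * ρ))⁻¹ =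
      c * (ρ * (ρ * (S.z * S.t) * ρ⁻¹) * ρ⁻¹) * c⁻¹ by group, ρzt, ρz, czc.2.eq, mul_inv_cancel_right]
  · rw [ω3, er, ec]
  · rw [es, ← hτs]
    have hτ2 : τ * τ = 1 := by
      rw [hτs, ← S.map_mul', ← S.map_one', S.eq_iff]
      rcases hs with rfl | rfl <;> decide +kernel
    have τc : τ * c * τ⁻¹ = c := by
      rw [hτs, ec, mul_inv_eq_iff_eq_mul, S.comm_iff]
      rcases hs with rfl | rfl <;> rcases hr with rfl | rfl <;> decide +kernel
    have τi : τ⁻¹ = τ := inv_eq_of_mul_eq_one_right hτ2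
    calc τ * ω * τ = τ * ω * τ⁻¹ := by rw [τi]
      _ = (τ * c * τ⁻¹) * ((τ * ρ * τ⁻¹) * (τ * ρ * τ⁻¹)) := by rw [hω]; group
      _ = c * (ρ⁻¹ * ρ⁻¹) := by rw [τc, hτρ]
      _ = ω⁻¹ := by
        rw [hω, mul_inv_rev (a := c), inv_eq_of_mul_eq_one_right c2, mul_inv_rev (a := ρ) (b := ρ)]
        exact ((cρ'.inv_right).mul_right cρ'.inv_right).eq

end Setup

end Cfsg.Agent.Lib.G23Recog23
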