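import Cfsg.Agent.Lib.G23Recog23.Facts

/-!
Facts about triples, reduced to facts about the two components.
-/

set_option autoImplicit false

namespace Cfsg.Agent.Lib.G23Recog23

/-- The second generator of `Q₈`. -/
def kk : SL23 := mk 1 1 1 2

theorem kk_facts : kk * kk = nn ∧ jj * jj = nn ∧ jj * kk ≠ kk * jj ∧ InQ jj ∧ InQ kk := by decide +kernel

theorem InQ_mul : ∀ a b : SL23, InQ a → InQ b → InQ (a * b) := by decide +kernel

theorem InQ_inv : ∀ a : SL23, InQ a → InQ a⁻¹ := by decide +kernel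

theorem pow_twelve : ∀ a : SL23, a ^ 12 = 1 := by decide +kernel

theorem comm_Q_none : ∀ a : SL23, (a * jj = jj * a ∧ a * kk = kk * a → a = 1 ∨ a = nn) ∧
    ¬(a * conjR jj = jj * a ∧ a * conjR kk = kk * a) := by decide +kernel

theorem outer_sq : ∀ a : SL23, a * conjR a ≠ nn ∧ (a * conjR a = 1 → ∃ c : SL23, c * a * conjR c⁻¹ = 1) := by
  decide +kernel

theorem fix_conjR : ∀ a : SL23, (conjR a = a → a = 1 ∨ a = nn) ∧
    (conjR a = nn * a → a = jj ∨ a = nn * jj) := by decide +kernel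

theorem swap_conjR : ∀ a : SL23, (a * conjR a⁻¹ = nn → a = jj ∨ a = nn * jj) ∧
    (a * conjR a⁻¹ = 1 → a = 1 ∨ a = nn) := by decide +kernel

/-- Equality up to the centre, for the pairs. -/
theorem same_iff {a b c d : SL23} {i j : Bool} :
    Same (a, b, i) (c, d, j) ↔ j = i ∧ (c = a ∧ d = b ∨ c = nn * a ∧ d = nn * b) := by
  simp only [Same, tneg, Prod.mk.injEq]; tauto

/-- The centraliser of `t` in `H`. -/
def Wlist : List Tri :=
  [(1, 1, false), (1, nn, false), (1, 1, true), (1, nn, true),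
   (jj, jj, false), (jj, nn * jj, false), (jj, jj, true), (jj, nn * jj, true)]

/-- The elements of `H` taking `t` to `z t`. -/
def Xlist : List Tri :=
  [(1, jj, false), (1, nn * jj, false), (1, jj, true), (1, nn * jj, true),
   (jj, 1, false), (jj, nn, false), (jj, 1, true), (jj, nn, true)]

theorem mem_Wlist {p : Tri} (h : TComm p (1, 1, true)) : ∃ q ∈ Wlist, Same p q := by
  obtain ⟨a, b, i⟩ := p
  have h' : (conjR a = a ∧ conjR b = b) ∨ (conjR a = nn * a ∧ conjR b = nn * b) := by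
    cases i <;> simp [TComm, tmul, tw, same_iff] at h <;> exact h
  have nn2 : nn * nn = (1 : SL23) := hom_SL23_two.1
  rcases h' with ⟨h1, h2⟩ | ⟨h1, h2⟩
  · rcases (fix_conjR a).1 h1 with rfl | rfl <;> rcases (fix_conjR b).1 h2 with rfl | rfl <;> cases i <;>
      simp [Wlist, same_iff, nn2]
  · rcases (fix_conjR a).2 h1 with rfl | rfl <;> rcases (fix_conjR b).2 h2 with rfl | rfl <;> cases i <;>
      simp [Wlist, same_iff, ← mul_assoc, nn2]

theorem mem_Xlist {p : Tri} (h : Same (tconj p (1, 1, true)) (nn, 1, true)) : ∃ q ∈ Xlist, Same p q := by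
  obtain ⟨a, b, i⟩ := p
  have inv_conj : ∀ x : SL23, conjR (conjR x) = x := conjR_props.2
  have nn2 : nn * nn = (1 : SL23) := hom_SL23_two.1
  have h' : (a * conjR a⁻¹ = nn ∧ b * conjR b⁻¹ = 1) ∨ (a * conjR a⁻¹ = 1 ∧ b * conjR b⁻¹ = nn) := by
    have flip : ∀ x : SL23, 1 = nn * x → x = nn := fun x hx => by
      calc x = nn * (nn * x) := by rw [← mul_assoc, nn2, one_mul]
        _ = nn := by rw [← hx, mul_one]
    have flip' : ∀ x : SL23, nn = nn * x → x = 1 := fun x hx => mul_left_cancel (a := nn) (by rw [← hx, mul_one])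
    cases i <;> simp [tconj, tmul, tinv, tw, same_iff, inv_conj] at h <;>
      rcases h with ⟨h1, h2⟩ | ⟨h1, h2⟩
    all_goals first
      | exact Or.inl ⟨h1.symm, h2.symm⟩
      | exact Or.inr ⟨by simpa using h1, by simpa using flip _ h2⟩
      | exact Or.inr ⟨by simpa using flip' _ h1, by simpa using flip _ h2⟩
      | exact Or.inl ⟨by simpa using h1.symm, by simpa using h2.symm⟩
  rcases h' with ⟨h1, h2⟩ | ⟨h1, h2⟩
  · rcases (swap_conjR a).1 h1 with rfl | rfl <;> rcases (swap_conjR b).2 h2 with rfl | rfl <;> cases i <;>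
      simp [Xlist, same_iff, ← mul_assoc, nn2]
  · rcases (swap_conjR a).2 h1 with rfl | rfl <;> rcases (swap_conjR b).1 h2 with rfl | rfl <;> cases i <;>
      simp [Xlist, same_iff, ← mul_assoc, nn2]

theorem W_facts : ∀ p ∈ Wlist, Same (tmul p p) tone ∧ ∀ q ∈ Wlist, TComm p q := by decide +kernel

theorem W_split : ∀ p ∈ Wlist, (∃ q ∈ ([tone, (nn, 1, false), (1, 1, true), (nn, 1, true)] : List Tri), Same p q) ∨
    ∃ q ∈ ([tone, (nn, 1, false), (1, 1, true), (nn, 1, true)] : List Tri), Same p (tmul (jj, jj, false) q) := by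
  decide +kernel

theorem jj_not_V : ∀ q ∈ ([tone, (nn, 1, false), (1, 1, true), (nn, 1, true)] : List Tri),
    ¬ Same (jj, jj, false) q := by decide +kernel

theorem X_sq : ∀ p ∈ Xlist, Same (tmul p p) tone ∨ Same (tmul p p) (nn, 1, false) := by decide +kernel

theorem X_norm : ∀ p ∈ Xlist, Same (tmul p p) tone →
    ∀ q ∈ ([tone, (nn, 1, false), (1, 1, true), (nn, 1, true)] : List Tri), TComm p (tmul (jj, jj, false) q) →
      ∃ r ∈ ([(jj, jj, false), (nn * jj, jj, false)] : List Tri), Same (tmul (jj, jj, false) q) r ∧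
        ∃ s ∈ ([(1, jj, true), (1, nn * jj, true)] : List Tri), Same p s ∨ Same (tmul p r) s := by decide +kernel

end Cfsg.Agent.Lib.G23Recog23
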