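import Cfsg.Agent.Lib.G23Recog23.Setup
import Cfsg.Agent.Lib.G23Recog23.TriFacts
import Mathlib.GroupTheory.Sylow

/-!
One class of involutions; the elements of odd order of the involution centraliser.
-/

set_option autoImplicit false
set_option linter.unusedSectionVars false

namespace Cfsg.Agent.Lib.G23Recog23

universe u

namespace Setup

variable {G : Type u} [Group G] (S : Setup G)

theorem z_sq : S.z * S.z = 1 := by rw [z, ← map_mul, nn_sq, map_one]

theorem z_ne : S.z ≠ 1 := fun h => by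
  rw [S.z_eq, ← S.map_one', S.eq_iff] at h
  revert h; decide +kernel

theorem t_comm_z : S.t * S.z = S.z * S.t := by rw [S.t_eq, S.comm_z]

theorem t_ne : S.t ≠ 1 ∧ S.t ≠ S.z := by
  constructor <;> intro h
  · rw [S.t_eq, ← S.map_one', S.eq_iff] at h
    revert h; decide +kernel
  · rw [S.t_eq, S.z_eq, S.eq_iff] at h
    revert h; decide +kernel

theorem inv_z : (S.z)⁻¹ = S.z := inv_eq_of_mul_eq_one_right S.z_sq

theorem inv_t : (S.t)⁻¹ = S.t := inv_eq_of_mul_eq_one_right S.tt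

theorem conj_z (p : Tri) : S.Φ p * S.z * (S.Φ p)⁻¹ = S.z := by rw [S.comm_z, mul_inv_cancel_right]

/-- An involution of `H` is `z` or conjugate in `H` to `t` or to `w = e₁ jj e₂ jj`. -/
theorem involution_cases {x : G} (hx : x * S.z = S.z * x) (h2 : x * x = 1) (h1 : x ≠ 1) :
    x = S.z ∨ (∃ p, S.Φ p * x * (S.Φ p)⁻¹ = S.t) ∨ ∃ p, S.Φ p * x * (S.Φ p)⁻¹ = S.Φ (jj, jj, false) := by
  obtain ⟨⟨a, b, i⟩, rfl⟩ := S.exists_tri hx
  rw [← S.map_mul', ← S.map_one', S.eq_iff] at h2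
  cases i
  · rcases inner_invol a b h2 with h | h | ⟨-, -, ha, hb⟩
    · exact absurd (by rw [← S.map_one']; exact S.eq_of_same h) h1
    · exact Or.inl (by rw [S.z_eq]; exact S.eq_of_same h)
    · obtain ⟨c, hc⟩ := conj_four a ha
      obtain ⟨d, hd⟩ := conj_four b hb
      refine Or.inr (Or.inr ⟨(c, d, false), ?_⟩)
      rw [← S.map_conj]
      congr 1
      simp [tconj, tmul, tinv, tw, hc, hd]
  · have h' : a * conjR a = 1 ∧ b * conjR b = 1 := by
      rcases h2 with h | h <;> simp [tmul, tw, tone, tneg, Prod.ext_iff] at h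
      · exact ⟨h.1.symm, h.2.symm⟩
      · exfalso
        refine (outer_sq a).1 ?_
        calc a * conjR a = nn * (nn * (a * conjR a)) := by rw [← mul_assoc nn, nn_sq, one_mul]
          _ = nn := by rw [← h.1, mul_one]
    obtain ⟨c, hc⟩ := (outer_sq a).2 h'.1
    obtain ⟨d, hd⟩ := (outer_sq b).2 h'.2
    refine Or.inr (Or.inl ⟨(c, d, false), ?_⟩)
    rw [← S.map_conj, S.t_eq]
    congr 1
    simp [tconj, tmul, tinv, tw]
    exact ⟨by simpa using hc, by simpa using hd⟩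

theorem isConj_z_of_comm {x : G} (hx : x * S.z = S.z * x) (h2 : x * x = 1) (h1 : x ≠ 1) :
    ∃ g, g * S.z * g⁻¹ = x := by
  obtain ⟨g, hg⟩ := S.fused
  obtain ⟨k, hk⟩ := S.fusedInner
  rcases S.involution_cases hx h2 h1 with h | ⟨p, hp⟩ | ⟨p, hp⟩
  · exact ⟨1, by simp [h]⟩
  · refine ⟨(S.Φ p)⁻¹ * g, ?_⟩
    rw [show ∀ a b : G, a⁻¹ * b * S.z * (a⁻¹ * b)⁻¹ = a⁻¹ * (b * S.z * b⁻¹) * a from fun a b => by group]
    rw [z, hg, ← hp]; group
  · refine ⟨(S.Φ p)⁻¹ * k, ?_⟩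
    rw [show ∀ a b : G, a⁻¹ * b * S.z * (a⁻¹ * b)⁻¹ = a⁻¹ * (b * S.z * b⁻¹) * a from fun a b => by group]
    rw [z, hk, show S.e₁ jj * S.e₂ jj = S.Φ (jj, jj, false) by simp [Φ], ← hp]; group

/-- The quaternion part of `H`. -/
def qSub : Subgroup G where
  carrier := {g | ∃ a b, InQ a ∧ InQ b ∧ S.Φ (a, b, false) = g}
  one_mem' := ⟨1, 1, by decide +kernel, by decide +kernel, S.map_one'⟩
  mul_mem' := by
    rintro _ _ ⟨a, b, ha, hb, rfl⟩ ⟨c, d, hc, hd, rfl⟩
    exact ⟨a * c, b * d, InQ_mul a c ha hc, InQ_mul b d hb hd, by rw [← S.map_mul']; rfl⟩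
  inv_mem' := by
    rintro _ ⟨a, b, ha, hb, rfl⟩
    exact ⟨a⁻¹, b⁻¹, InQ_inv a ha, InQ_inv b hb, by rw [← S.map_inv']; rfl⟩

theorem qSub_isPGroup : IsPGroup 2 S.qSub := by
  rintro ⟨g, a, b, ha, hb, rfl⟩
  refine ⟨2, Subtype.ext ?_⟩
  simp only [InQ] at ha hb
  show S.Φ (a, b, false) ^ (2 ^ 2) = 1
  rw [show (2 : ℕ) ^ 2 = 2 + 2 by norm_num, pow_add, pow_two, ← S.map_mul', ← S.map_mul', ← S.map_one']
  congr 1
  simp [tmul, tw, tone, ha, hb]

theorem comm_qSub {x : G} (hx : ∀ g ∈ S.qSub, x * g = g * x) : x = 1 ∨ x = S.z := by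
  obtain ⟨hk1, hj1, -, hj, hk⟩ := kk_facts
  have h1 : InQ (1 : SL23) := by decide +kernel
  have hn : InQ nn := by decide +kernel
  obtain ⟨⟨a, b, i⟩, rfl⟩ := S.exists_tri (hx S.z ⟨nn, 1, hn, h1, S.z_eq.symm⟩)
  have test₁ : ∀ c, InQ c → a * tw i c = c * a := fun c hc => by
    have := S.comm_iff.1 (hx _ ⟨c, 1, hc, h1, rfl⟩)
    cases i <;> simp [TComm, tmul, tw, same_iff, hom_SL23_two.2.1] at this <;> simp [tw] <;>
      first | exact this | exact this.symm
  have test₂ : ∀ c, InQ c → b * tw i c = c * b := fun c hc => by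
    have := S.comm_iff.1 (hx _ ⟨1, c, h1, hc, rfl⟩)
    cases i <;> simp [TComm, tmul, tw, same_iff, hom_SL23_two.2.1] at this <;> simp [tw] <;>
      first | exact this | exact this.symm
  cases i
  · rcases (comm_Q_none a).1 ⟨test₁ _ hj, test₁ _ hk⟩ with rfl | rfl <;>
      rcases (comm_Q_none b).1 ⟨test₂ _ hj, test₂ _ hk⟩ with rfl | rfl
    · left; exact S.map_one'
    · right; rw [S.z_eq, S.eq_iff, same_iff]; simp [nn_sq]
    · right; rw [S.z_eq]
    · left; rw [← S.map_one', tone, S.eq_iff, same_iff]; simp [nn_sq]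
  · exact absurd ⟨test₁ _ hj, test₁ _ hk⟩ (comm_Q_none a).2

/-- There is one class of involutions. -/
theorem one_class [Finite G] {x : G} (h2 : x * x = 1) (h1 : x ≠ 1) : ∃ g, g * S.z * g⁻¹ = x := by
  classical
  obtain ⟨P, hP⟩ := S.qSub_isPGroup.exists_le_sylow
  have hzq : S.z ∈ (P : Subgroup G) := hP ⟨nn, 1, by decide +kernel, by decide +kernel, S.z_eq.symm⟩
  haveI : Nontrivial (P : Subgroup G) := ⟨⟨S.z, hzq⟩, 1, fun h => S.z_ne (congrArg Subtype.val h)⟩
  haveI := P.2.center_nontrivial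
  obtain ⟨⟨c, hc⟩, hc1⟩ := exists_ne (1 : Subgroup.center (P : Subgroup G))
  have hcz : (c : G) = S.z := by
    rcases S.comm_qSub (x := (c : G)) fun g hg =>
      (congrArg Subtype.val (Subgroup.mem_center_iff.1 hc ⟨g, hP hg⟩)).symm with h | h
    · exact absurd (Subtype.ext (Subtype.ext h)) hc1
    · exact h
  have hPH : ∀ g ∈ (P : Subgroup G), g * S.z = S.z * g := fun g hg => by
    rw [← hcz]; exact congrArg Subtype.val (Subgroup.mem_center_iff.1 hc ⟨g, hg⟩)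
  haveI : Fact (Nat.Prime 2) := ⟨Nat.prime_two⟩
  have hx2 : IsPGroup 2 (Subgroup.zpowers x) := by
    refine IsPGroup.of_card (n := 1) ?_
    rw [Nat.card_zpowers, pow_one, orderOf_eq_prime (by rw [pow_two]; exact h2) h1]
  obtain ⟨R, hR⟩ := hx2.exists_le_sylow
  obtain ⟨g, hg⟩ := MulAction.exists_smul_eq G R P
  have hm : g * x * g⁻¹ ∈ (P : Subgroup G) := by
    rw [← hg, Sylow.coe_subgroup_smul]
    exact ⟨x, hR (Subgroup.mem_zpowers x), rfl⟩
  obtain ⟨k, hk⟩ := S.isConj_z_of_comm (hPH _ hm)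
    (by rw [show g * x * g⁻¹ * (g * x * g⁻¹) = g * (x * x) * g⁻¹ by group, h2, mul_one, mul_inv_cancel])
    (fun h => h1 (by have := congrArg (fun y => g⁻¹ * y * g) h; simpa [mul_assoc] using this))
  refine ⟨g⁻¹ * k, ?_⟩
  rw [show g⁻¹ * k * S.z * (g⁻¹ * k)⁻¹ = g⁻¹ * (k * S.z * k⁻¹) * g by group, hk]; group

/-- Elements of odd order of `H` have order dividing three. -/
theorem cube_of_odd {x : G} (hx : x * S.z = S.z * x) (ho : Odd (orderOf x)) : x * x * x = 1 := by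
  obtain ⟨⟨a, b, i⟩, rfl⟩ := S.exists_tri hx
  have sq : ∀ c d : SL23, ∀ n : ℕ, S.Φ (c, d, false) ^ n = S.Φ (c ^ n, d ^ n, false) := fun c d n => by
    induction n with
    | zero => simp [show ((1 : SL23), (1 : SL23), false) = tone from rfl]
    | succ n ih => rw [pow_succ, ih, ← S.map_mul']; simp [tmul, tw, pow_succ]
  have h24 : S.Φ (a, b, i) ^ 24 = 1 := by
    rw [show 24 = 2 * 12 by norm_num, pow_mul, pow_two, ← S.map_mul',
      show tmul (a, b, i) (a, b, i) = (a * tw i a, b * tw i b, false) by cases i <;> rfl, sq,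
      pow_twelve, pow_twelve]
    exact S.map_one'
  have hd : orderOf (S.Φ (a, b, i)) ∣ 3 := by
    have h := orderOf_dvd_of_pow_eq_one h24
    have hc : (orderOf (S.Φ (a, b, i))).Coprime 8 := by
      rw [show 8 = 2 ^ 3 by norm_num]
      exact Nat.Coprime.pow_right 3 (Nat.coprime_two_right.2 ho)
    exact hc.dvd_of_dvd_mul_left (show orderOf (S.Φ (a, b, i)) ∣ 8 * 3 from h)
  have := orderOf_dvd_iff_pow_eq_one.1 hd
  rwa [pow_three, ← mul_assoc] at this

/-- The coordinates of an element of order three of `H`. -/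
theorem coord_three {x : G} (hx : x * S.z = S.z * x) (h3 : x * x * x = 1) :
    ∃ a b, a * a * a = 1 ∧ b * b * b = 1 ∧ S.Φ (a, b, false) = x := by
  obtain ⟨p, rfl⟩ := S.exists_tri hx
  rw [← S.map_mul', ← S.map_mul', ← S.map_one', S.eq_iff] at h3
  have h3' : Same (tmul (tmul p p) p) tone := h3
  obtain ⟨⟨a, b, i⟩, hs, rfl, ha, hb⟩ := order_three p h3'
  exact ⟨a, b, ha, hb, (S.eq_of_same hs).symm⟩

end Setup

end Cfsg.Agent.Lib.G23Recog23
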