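import Mathlib.LinearAlgebra.Matrix.SpecialLinearGroup
import Mathlib.Data.ZMod.Basic
import Mathlib.Algebra.Field.ZMod

/-!
The model of the involution centraliser `(SL₂(3) ∘ SL₂(3)).2` of `G₂(3)`: triples `(a, b, j)` standing for
`e₁(a) e₂(b) tʲ`, where `t` acts on both factors as conjugation by `diag(1, -1)`.
-/

set_option autoImplicit false

namespace Cfsg.Agent.Lib.G23Recog23

open Matrix

/-- `SL₂(3)`. -/
abbrev SL23 : Type := Matrix.SpecialLinearGroup (Fin 2) (ZMod 3)

/-- A matrix of determinant one. -/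
def mk (a b c d : ZMod 3) (h : a * d - b * c = 1 := by decide) : SL23 :=
  ⟨!![a, b; c, d], by rw [Matrix.det_fin_two_of]; exact h⟩

/-- The upper unitriangular generator. -/
def uu : SL23 := mk 1 1 0 1

/-- The lower unitriangular generator. -/
def vv : SL23 := mk 1 0 1 1

/-- The central involution. -/
def nn : SL23 := mk 2 0 0 2

/-- The rotation by a right angle. -/
def jj : SL23 := mk 0 2 1 0

/-- Conjugation by `diag(1, -1)`. -/
def conjR : SL23 ≃* SL23 where
  toFun g := ⟨!![g.1 0 0, -g.1 0 1; -g.1 1 0, g.1 1 1], by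
    have := g.2; rw [Matrix.det_fin_two] at this; rw [Matrix.det_fin_two_of, neg_mul_neg]; exact this⟩
  invFun g := ⟨!![g.1 0 0, -g.1 0 1; -g.1 1 0, g.1 1 1], by
    have := g.2; rw [Matrix.det_fin_two] at this; rw [Matrix.det_fin_two_of, neg_mul_neg]; exact this⟩
  left_inv g := by ext i j; fin_cases i <;> fin_cases j <;> simp
  right_inv g := by ext i j; fin_cases i <;> fin_cases j <;> simp
  map_mul' g h := by
    apply Subtype.ext
    change _ = (!![g.1 0 0, -g.1 0 1; -g.1 1 0, g.1 1 1] * !![h.1 0 0, -h.1 0 1; -h.1 1 0, h.1 1 1] :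
      Matrix (Fin 2) (Fin 2) (ZMod 3))
    ext i j
    fin_cases i <;> fin_cases j <;>
      simp [Matrix.SpecialLinearGroup.coe_mul, Matrix.mul_apply, Fin.sum_univ_two] <;> ring

/-- The triples. -/
abbrev Tri : Type := SL23 × SL23 × Bool

/-- The action of `tʲ` on a factor. -/
def tw (j : Bool) (a : SL23) : SL23 := if j then conjR a else a

/-- The product of triples. -/
def tmul (p q : Tri) : Tri := (p.1 * tw p.2.2 q.1, p.2.1 * tw p.2.2 q.2.1, xor p.2.2 q.2.2)

/-- The inverse of a triple. -/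
def tinv (p : Tri) : Tri := (tw p.2.2 p.1⁻¹, tw p.2.2 p.2.1⁻¹, p.2.2)

/-- The other triple standing for the same element. -/
def tneg (p : Tri) : Tri := (nn * p.1, nn * p.2.1, p.2.2)

/-- The unit triple. -/
def tone : Tri := (1, 1, false)

/-- Two triples standing for the same element. -/
def Same (p q : Tri) : Prop := q = p ∨ q = tneg p

instance (p q : Tri) : Decidable (Same p q) := inferInstanceAs (Decidable (_ ∨ _))

/-- Conjugation of triples. -/
def tconj (g p : Tri) : Tri := tmul (tmul g p) (tinv g)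

/-- Equality of triples up to the centre commuting test. -/
def TComm (p q : Tri) : Prop := Same (tmul p q) (tmul q p)

instance (p q : Tri) : Decidable (TComm p q) := inferInstanceAs (Decidable (Same _ _))

theorem card_SL23 : Fintype.card SL23 = 24 := by decide +kernel

/-- An element of order two is the central one. -/
theorem eq_nn_of_sq : ∀ a : SL23, a * a = 1 → a = 1 ∨ a = nn := by decide +kernel

theorem center_SL23 : ∀ a : SL23, a * uu = uu * a → a * vv = vv * a → a = 1 ∨ a = nn := by decide +kernel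

/-- An endomorphism is determined by the two generators. -/
theorem gen_word : ∀ a : SL23, ∃ i j k l : Fin 3, a = uu ^ (i : ℕ) * vv ^ (j : ℕ) * uu ^ (k : ℕ) * vv ^ (l : ℕ) := by
  decide +kernel

/-- The image of a word. -/
def wmap (p q : SL23) (a : Fin 3 × Fin 3 × Fin 3 × Fin 3) : SL23 :=
  p ^ (a.1 : ℕ) * q ^ (a.2.1 : ℕ) * p ^ (a.2.2.1 : ℕ) * q ^ (a.2.2.2 : ℕ)

end Cfsg.Agent.Lib.G23Recog23

namespace Cfsg.Agent.Lib.G23Recog23

/-- An involutory automorphism that inverts the quotient by `Q₈` is a conjugate of `conjR`. -/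
theorem aut_conj : ∀ U V : SL23, U * U * U = 1 → V * V * V = 1 → U * V⁻¹ * U = V⁻¹ * U * V⁻¹ →
    (U * uu) * (U * uu) * ((U * uu) * (U * uu)) = 1 →
    (∀ w : Fin 3 × Fin 3 × Fin 3 × Fin 3, wmap uu vv w = U → wmap U V w = uu) →
    (∀ w : Fin 3 × Fin 3 × Fin 3 × Fin 3, wmap uu vv w = V → wmap U V w = vv) →
    ∃ c : SL23, U = c * conjR (c⁻¹ * uu * c) * c⁻¹ ∧ V = c * conjR (c⁻¹ * vv * c) * c⁻¹ := by
  decide +kernel

end Cfsg.Agent.Lib.G23Recog23
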