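import Cfsg.Agent.Lib.FischerLarge99.Normaliser
import Cfsg.Agent.Lib.G23Recog23.Model

/-!
An elementary abelian group `E` of order eight with a group `M` inducing all 168 automorphisms on it.
-/

set_option autoImplicit false
set_option linter.unusedSectionVars false

namespace Cfsg.Agent.Lib.G23Recog23

universe u

variable {G : Type u} [Group G] [Finite G]

/-- An elementary abelian group of order eight inside `M`, normal in `M`, with `M/E ≅ SL₃(2)`, that is its own
centraliser in `M`. -/
structure Eight (M E : Subgroup G) : Prop where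
  le : E ≤ M
  normal : ∀ m ∈ M, ∀ e ∈ E, m * e * m⁻¹ ∈ E
  sq : ∀ e ∈ E, e * e = 1
  comm : ∀ e ∈ E, ∀ f ∈ E, e * f = f * e
  card : Nat.card E = 8
  cardM : Nat.card M = 1344
  self : ∀ m ∈ M, (∀ e ∈ E, m * e = e * m) → m ∈ E

/-- The element with coordinates `v` in a frame `(x, y, w)`. -/
def cw (x y w : G) (v : Bool × Bool × Bool) : G :=
  (if v.1 then x else 1) * (if v.2.1 then y else 1) * (if v.2.2 then w else 1)

/-- A basis of `E`. -/
structure Basis3 (E : Subgroup G) (x y w : G) : Prop where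
  hx : x ∈ E
  hy : y ∈ E
  hw : w ∈ E
  inj : Function.Injective (cw x y w)

theorem cw_mem {E : Subgroup G} {x y w : G} (hx : x ∈ E) (hy : y ∈ E) (hw : w ∈ E) (v : Bool × Bool × Bool) :
    cw x y w v ∈ E := by
  unfold cw
  refine mul_mem (mul_mem ?_ ?_) ?_ <;> split_ifs <;> first | assumption | exact one_mem _

namespace Eight

variable {M E : Subgroup G} (h : Eight M E)

include h

theorem surj {x y w : G} (B : Basis3 E x y w) {e : G} (he : e ∈ E) : ∃ v, cw x y w v = e := by
  let ψ : Bool × Bool × Bool → E := fun v => ⟨cw x y w v, cw_mem B.hx B.hy B.hw v⟩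
  have hψ : Function.Injective ψ := fun a b hab => B.inj (congrArg Subtype.val hab)
  have hc : Nat.card (Bool × Bool × Bool) = Nat.card E := by rw [h.card, Nat.card_eq_fintype_card]; rfl
  obtain ⟨v, hv⟩ := ((Nat.bijective_iff_injective_and_card ψ).2 ⟨hψ, hc⟩).2 ⟨e, he⟩
  exact ⟨v, congrArg Subtype.val hv⟩

theorem cw_mul {x y w : G} (Bx : x ∈ E) (By : y ∈ E) (Bw : w ∈ E) (p q : Bool × Bool × Bool) :
    cw x y w p * cw x y w q = cw x y w (xor p.1 q.1, xor p.2.1 q.2.1, xor p.2.2 q.2.2) := by
  have xx := h.sq x Bx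
  have yy := h.sq y By
  have ww := h.sq w Bw
  have yx := h.comm y By x Bx
  have wx := h.comm w Bw x Bx
  have wy := h.comm w Bw y By
  have key : ∀ a a' b b' c c' : G, a ∈ E → a' ∈ E → b ∈ E → b' ∈ E → c ∈ E → c' ∈ E →
      a * b * c * (a' * b' * c') = (a * a') * (b * b') * (c * c') := by
    intro a a' b b' c c' ha ha' hb hb' hc hc'
    calc a * b * c * (a' * b' * c') = a * (b * (c * a')) * b' * c' := by group
      _ = a * (b * (a' * c)) * b' * c' := by rw [h.comm c hc a' ha']
      _ = a * ((b * a') * (c * b')) * c' := by group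
      _ = a * ((a' * b) * (b' * c)) * c' := by rw [h.comm b hb a' ha', h.comm c hc b' hb']
      _ = _ := by group
  have hm : ∀ (i : Bool) (g : G), g ∈ E → (if i then g else 1) ∈ E := by
    intro i g hg; split_ifs <;> first | assumption | exact one_mem _
  have hxor : ∀ (i j : Bool) (g : G), g * g = 1 →
      (if i then g else 1) * (if j then g else 1) = if xor i j then g else 1 := by
    intro i j g hg; cases i <;> cases j <;> simp [hg]
  show _ * _ * _ * (_ * _ * _) = _
  rw [key _ _ _ _ _ _ (hm _ _ Bx) (hm _ _ Bx) (hm _ _ By) (hm _ _ By) (hm _ _ Bw) (hm _ _ Bw),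
    hxor _ _ x xx, hxor _ _ y yy, hxor _ _ w ww]
  rfl

/-- Every change of basis of `E` is induced by `M`. -/
theorem exists_mover {x y w x' y' w' : G} (B : Basis3 E x y w) (B' : Basis3 E x' y' w') :
    ∃ m ∈ M, m * x * m⁻¹ = x' ∧ m * y * m⁻¹ = y' ∧ m * w * m⁻¹ = w' := by
  classical
  haveI : Fintype G := Fintype.ofFinite G
  let ψ : Bool × Bool × Bool → G := cw x y w
  let T : Finset ((Bool × Bool × Bool) × (Bool × Bool × Bool) × (Bool × Bool × Bool)) :=
    Finset.univ.filter fun p => p.1 ≠ (false, false, false) ∧ p.2.1 ≠ (false, false, false) ∧ p.2.1 ≠ p.1 ∧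
      p.2.2 ≠ (false, false, false) ∧ p.2.2 ≠ p.1 ∧ p.2.2 ≠ p.2.1 ∧
      p.2.2 ≠ (xor p.1.1 p.2.1.1, xor p.1.2.1 p.2.1.2.1, xor p.1.2.2 p.2.1.2.2)
  have hTcard : T.card = 168 := by decide +kernel
  let U : Finset (G × G × G) := T.image fun p => (ψ p.1, ψ p.2.1, ψ p.2.2)
  have good : ∀ a b c : G, Basis3 E a b c → (a, b, c) ∈ U := by
    intro a b c Ba
    obtain ⟨p, hp⟩ := h.surj B Ba.hx
    obtain ⟨q, hq⟩ := h.surj B Ba.hy
    obtain ⟨r, hr⟩ := h.surj B Ba.hw
    refine Finset.mem_image.2 ⟨(p, q, r), Finset.mem_filter.2 ⟨Finset.mem_univ _, ?_⟩, by simp [ψ, hp, hq, hr]⟩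
    have h0 : cw x y w (false, false, false) = 1 := by simp [cw]
    have f0 : cw a b c (false, false, false) = 1 := by simp [cw]
    have fa : cw a b c (true, false, false) = a := by simp [cw]
    have fb : cw a b c (false, true, false) = b := by simp [cw]
    have fc : cw a b c (false, false, true) = c := by simp [cw]
    have fab : cw a b c (true, true, false) = a * b := by simp [cw]
    refine ⟨?_, ?_, ?_, ?_, ?_, ?_, ?_⟩ <;> intro hh <;> simp only at hh
    · rw [hh, h0] at hp; exact absurd (Ba.inj ((fa.trans hp.symm).trans f0.symm)) (by decide)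
    · rw [hh, h0] at hq; exact absurd (Ba.inj ((fb.trans hq.symm).trans f0.symm)) (by decide)
    · rw [hh, hp] at hq; exact absurd (Ba.inj ((fb.trans hq.symm).trans fa.symm)) (by decide)
    · rw [hh, h0] at hr; exact absurd (Ba.inj ((fc.trans hr.symm).trans f0.symm)) (by decide)
    · rw [hh, hp] at hr; exact absurd (Ba.inj ((fc.trans hr.symm).trans fa.symm)) (by decide)
    · rw [hh, hq] at hr; exact absurd (Ba.inj ((fc.trans hr.symm).trans fb.symm)) (by decide)
    · rw [hh, ← h.cw_mul B.hx B.hy B.hw, hp, hq] at hr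
      exact absurd (Ba.inj ((fc.trans hr.symm).trans fab.symm)) (by decide)
  -- the orbit of the first basis
  let f : M → G × G × G := fun m => ((m : G) * x * (m : G)⁻¹, (m : G) * y * (m : G)⁻¹, (m : G) * w * (m : G)⁻¹)
  have hmov : ∀ m : M, (f m) ∈ U := by
    intro m
    refine good _ _ _ ⟨h.normal _ m.2 _ B.hx, h.normal _ m.2 _ B.hy, h.normal _ m.2 _ B.hw, fun p q hpq => B.inj ?_⟩
    have conj : ∀ v, cw ((m : G) * x * (m : G)⁻¹) ((m : G) * y * (m : G)⁻¹) ((m : G) * w * (m : G)⁻¹) v =
        (m : G) * cw x y w v * (m : G)⁻¹ := by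
      rintro ⟨i, j, k⟩; cases i <;> cases j <;> cases k <;> simp [cw, mul_assoc]
    rw [conj, conj] at hpq
    exact mul_left_cancel (mul_right_cancel hpq)
  have fib : ∀ u : G × G × G, (Finset.univ.filter fun m : M => f m = u).card ≤ 8 := by
    intro u
    rcases (Finset.univ.filter fun m : M => f m = u).eq_empty_or_nonempty with h0 | ⟨m₀, hm₀⟩
    · rw [h0]; simp
    have e0 : f m₀ = u := (Finset.mem_filter.1 hm₀).2
    have hsub : ∀ m : M, f m = u → (m₀ : G)⁻¹ * m ∈ E := by
      intro m hm
      refine h.self _ (M.mul_mem (M.inv_mem m₀.2) m.2) fun e he => ?_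
      have hall : ∀ g : G, g = x ∨ g = y ∨ g = w → (m₀ : G)⁻¹ * m * g = g * ((m₀ : G)⁻¹ * m) := by
        intro g hg
        have e2 : (m : G) * g * (m : G)⁻¹ = (m₀ : G) * g * (m₀ : G)⁻¹ := by
          have := hm.trans e0.symm
          simp only [f, Prod.mk.injEq] at this
          rcases hg with rfl | rfl | rfl
          · exact this.1
          · exact this.2.1
          · exact this.2.2
        calc (m₀ : G)⁻¹ * m * g = (m₀ : G)⁻¹ * ((m : G) * g * (m : G)⁻¹) * m := by group
          _ = (m₀ : G)⁻¹ * ((m₀ : G) * g * (m₀ : G)⁻¹) * m := by rw [e2]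
          _ = g * ((m₀ : G)⁻¹ * m) := by group
      obtain ⟨⟨i, j, k⟩, rfl⟩ := h.surj B he
      have hC : ∀ (i : Bool) (g : G), g = x ∨ g = y ∨ g = w →
          Commute ((m₀ : G)⁻¹ * m) (if i then g else 1) := by
        intro i g hg; cases i
        · exact Commute.one_right _
        · exact hall g hg
      exact (((hC i x (Or.inl rfl)).mul_right (hC j y (Or.inr (Or.inl rfl)))).mul_right
        (hC k w (Or.inr (Or.inr rfl)))).eq
    let F : {m : M // f m = u} → E := fun m => ⟨(m₀ : G)⁻¹ * m.1, hsub m.1 m.2⟩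
    have hF : Function.Injective F := fun a b hab => by
      have := congrArg Subtype.val hab
      exact Subtype.ext (Subtype.ext (mul_left_cancel this))
    have := Nat.card_le_card_of_injective F hF
    rw [h.card, Nat.card_eq_fintype_card, Fintype.card_subtype] at this
    exact this
  have hU : U.card ≤ 168 := le_trans Finset.card_image_le hTcard.le
  by_contra hne
  have hnot : (x', y', w') ∉ (Finset.univ : Finset M).image f := by
    intro hin
    obtain ⟨m, -, hm⟩ := Finset.mem_image.1 hin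
    simp only [f, Prod.mk.injEq] at hm
    exact hne ⟨m, m.2, hm.1, hm.2.1, hm.2.2⟩
  have hlt : ((Finset.univ : Finset M).image f).card < U.card := by
    refine Finset.card_lt_card ⟨fun u hu => ?_, fun hsup => hnot (hsup (good _ _ _ B'))⟩
    obtain ⟨m, -, rfl⟩ := Finset.mem_image.1 hu
    exact hmov m
  have hle := Finset.card_le_mul_card_image (f := f) (Finset.univ : Finset M) 8 (fun b _ => fib b)
  rw [Finset.card_univ, ← Nat.card_eq_fintype_card, h.cardM] at hle
  omega

/-- Every non-identity element starts a basis. -/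
theorem exists_basis {x : G} (hx : x ∈ E) (hx1 : x ≠ 1) : ∃ y w, Basis3 E x y w := by
  classical
  haveI : Fintype E := Fintype.ofFinite _
  have hc : (Finset.univ : Finset E).card = 8 := by rw [Finset.card_univ, ← Nat.card_eq_fintype_card, h.card]
  obtain ⟨y, -, hy⟩ := Finset.exists_mem_notMem_of_card_lt_card (s := ({1, ⟨x, hx⟩} : Finset E))
    (t := Finset.univ) (lt_of_le_of_lt Finset.card_le_two (by omega))
  obtain ⟨w, -, hw⟩ := Finset.exists_mem_notMem_of_card_lt_card
    (s := ({1, ⟨x, hx⟩, y, ⟨x, hx⟩ * y} : Finset E)) (t := Finset.univ)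
    (lt_of_le_of_lt Finset.card_le_four (by omega))
  simp only [Finset.mem_insert, Finset.mem_singleton, not_or, Subtype.ext_iff, Subgroup.coe_one,
    Subgroup.coe_mul] at hy hw
  refine ⟨y, w, hx, y.2, w.2, fun p q hpq => ?_⟩
  have hE : ∀ e : G, e ∈ E → e⁻¹ = e := fun e he => inv_eq_of_mul_eq_one_right (h.sq e he)
  have key : ∀ v : Bool × Bool × Bool, cw x (y : G) (w : G) v = 1 → v = (false, false, false) := by
    rintro ⟨i, j, k⟩ hv
    cases i <;> cases j <;> cases k <;> simp only [cw, if_true, if_false, one_mul, mul_one,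
      Bool.false_eq_true] at hv ⊢
    · exact absurd hv hw.1
    · exact absurd hv hy.1
    · exact absurd ((eq_inv_of_mul_eq_one_right hv).trans (hE _ y.2)) hw.2.2.1
    · exact absurd hv hx1
    · exact absurd ((eq_inv_of_mul_eq_one_right hv).trans (hE _ hx)) hw.2.1
    · exact absurd ((eq_inv_of_mul_eq_one_right hv).trans (hE _ hx)) hy.2
    · exact absurd ((eq_inv_of_mul_eq_one_right hv).trans (hE _ (mul_mem hx y.2))) hw.2.2.2
  have hpp := h.cw_mul hx y.2 w.2 p q
  rw [hpq, h.sq _ (cw_mem hx y.2 w.2 q)] at hpp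
  have := key _ hpp.symm
  revert this
  obtain ⟨a, b, c⟩ := p
  obtain ⟨a', b', c'⟩ := q
  cases a <;> cases b <;> cases c <;> cases a' <;> cases b' <;> cases c' <;> simp

/-- Coordinates of a new frame. -/
theorem Basis3.change {x y w : G} (B : Basis3 E x y w) (p q r : Bool × Bool × Bool)
    (hinj : Function.Injective fun v : Bool × Bool × Bool =>
      ((if v.1 then p.1 else false) ^^ (if v.2.1 then q.1 else false) ^^ (if v.2.2 then r.1 else false),
        (if v.1 then p.2.1 else false) ^^ (if v.2.1 then q.2.1 else false) ^^ (if v.2.2 then r.2.1 else false),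
        (if v.1 then p.2.2 else false) ^^ (if v.2.1 then q.2.2 else false) ^^ (if v.2.2 then r.2.2 else false))) :
    Basis3 E (cw x y w p) (cw x y w q) (cw x y w r) := by
  refine ⟨cw_mem B.hx B.hy B.hw p, cw_mem B.hx B.hy B.hw q, cw_mem B.hx B.hy B.hw r, fun a b hab => hinj ?_⟩
  refine B.inj ?_
  have key : ∀ v : Bool × Bool × Bool, cw (cw x y w p) (cw x y w q) (cw x y w r) v = cw x y w
      ((if v.1 then p.1 else false) ^^ (if v.2.1 then q.1 else false) ^^ (if v.2.2 then r.1 else false),
        (if v.1 then p.2.1 else false) ^^ (if v.2.1 then q.2.1 else false) ^^ (if v.2.2 then r.2.1 else false),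
        (if v.1 then p.2.2 else false) ^^ (if v.2.1 then q.2.2 else false) ^^ (if v.2.2 then r.2.2 else false)) := by
    have h0 : (1 : G) = cw x y w (false, false, false) := by simp [cw]
    rintro ⟨i, j, k⟩
    show (if i then cw x y w p else 1) * (if j then cw x y w q else 1) * (if k then cw x y w r else 1) = _
    cases i <;> cases j <;> cases k <;>
      simp only [if_true, if_false, Bool.false_eq_true, mul_one, one_mul, h.cw_mul B.hx B.hy B.hw,
        Bool.false_bne, Bool.bne_false, bne_self_eq_false] <;> simp [h0]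
  rw [← key, ← key]; exact hab

end Eight

/-- `M` acts faithfully on `E`, as `M/E` is simple and `M` is not centralised. -/
theorem eight_of {M E : Subgroup G} (hle : E ≤ M) (hn : (E.subgroupOf M).Normal)
    (hel : ∀ e ∈ E, e * e = 1) (hcard : Nat.card E = 8)
    (e : (↥M ⧸ E.subgroupOf M) ≃* FischerLarge99.SL32)
    {z : G} (hzE : z ∈ E) (hlt : Nat.card (Subgroup.centralizer ({z} : Set G)) < 1344) : Eight M E := by
  classical
  have hcomm : ∀ a ∈ E, ∀ b ∈ E, a * b = b * a := by
    intro a ha b hb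
    have i : ∀ g ∈ E, g⁻¹ = g := fun g hg => inv_eq_of_mul_eq_one_right (hel g hg)
    calc a * b = (a * b)⁻¹ := (i _ (mul_mem ha hb)).symm
      _ = b * a := by rw [mul_inv_rev, i a ha, i b hb]
  have hnorm : ∀ m ∈ M, ∀ x ∈ E, m * x * m⁻¹ ∈ E := fun m hm x hx =>
    Subgroup.mem_subgroupOf.1 (hn.conj_mem ⟨x, hle hx⟩ (Subgroup.mem_subgroupOf.2 hx) ⟨m, hm⟩)
  have hidx : (E.subgroupOf M).index = 168 := by
    rw [Subgroup.index, Nat.card_congr e.toEquiv, FischerLarge99.card_SL32]
  have hM : Nat.card M = 1344 := by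
    rw [← Subgroup.card_mul_index (E.subgroupOf M), hidx,
      Nat.card_congr (Subgroup.subgroupOfEquivOfLe hle).toEquiv, hcard]
  refine ⟨hle, hnorm, hel, hcomm, hcard, hM, ?_⟩
  let K : Subgroup M := (Subgroup.centralizer (E : Set G)).subgroupOf M
  have hKn : K.Normal := ⟨fun k hk g => by
    rw [Subgroup.mem_subgroupOf, Subgroup.mem_centralizer_iff] at hk ⊢
    intro x hx
    have hx' : (g : G)⁻¹ * x * (g : G) ∈ E := by
      simpa using hnorm _ (M.inv_mem g.2) x hx
    have h1 := hk _ hx'
    simp only [Subgroup.coe_mul, Subgroup.coe_inv]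
    calc x * ((g : G) * k * (g : G)⁻¹) = (g : G) * (((g : G)⁻¹ * x * g) * k) * (g : G)⁻¹ := by group
      _ = (g : G) * (k * ((g : G)⁻¹ * x * g)) * (g : G)⁻¹ := by rw [h1]
      _ = (g : G) * k * (g : G)⁻¹ * x := by group⟩
  have hEK : E.subgroupOf M ≤ K := fun k hk => by
    rw [Subgroup.mem_subgroupOf] at hk ⊢
    exact Subgroup.mem_centralizer_iff.2 fun x hx => hcomm x hx _ hk
  haveI : IsSimpleGroup FischerLarge99.SL32 := FischerLarge99.simple_SL32
  let φ : M →* FischerLarge99.SL32 := e.toMonoidHom.comp (QuotientGroup.mk' _)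
  have hφ : Function.Surjective φ := e.surjective.comp (QuotientGroup.mk'_surjective _)
  have hker : ∀ m : M, φ m = 1 → m ∈ E.subgroupOf M := fun m hm => by
    rw [← QuotientGroup.eq_one_iff]
    exact e.injective (hm.trans (map_one e).symm)
  rcases (hKn.map φ hφ).eq_bot_or_eq_top with hb | ht
  · intro m hm hc
    have hmK : (⟨m, hm⟩ : M) ∈ K :=
      Subgroup.mem_subgroupOf.2 (Subgroup.mem_centralizer_iff.2 fun x hx => (hc x hx).symm)
    have : φ ⟨m, hm⟩ ∈ K.map φ := Subgroup.mem_map_of_mem φ hmK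
    rw [hb, Subgroup.mem_bot] at this
    exact Subgroup.mem_subgroupOf.1 (hker _ this)
  · exfalso
    have hKtop : K = ⊤ := by
      refine (Subgroup.eq_top_iff' _).2 fun m => ?_
      obtain ⟨k, hk, hkm⟩ := (ht ▸ Subgroup.mem_top (φ m) : φ m ∈ K.map φ)
      have h1 : φ (k⁻¹ * m) = 1 := by rw [map_mul, map_inv, hkm, inv_mul_cancel]
      have h2 := K.mul_mem hk (hEK (hker _ h1))
      rwa [mul_inv_cancel_left] at h2
    have hMC : M ≤ Subgroup.centralizer ({z} : Set G) := fun m hm => by
      have h1 : (⟨m, hm⟩ : M) ∈ K := hKtop ▸ Subgroup.mem_top _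
      rw [Subgroup.mem_centralizer_singleton_iff]
      exact (Subgroup.mem_centralizer_iff.1 (Subgroup.mem_subgroupOf.1 h1) z hzE).symm
    have := Subgroup.card_le_of_le hMC
    omega

end Cfsg.Agent.Lib.G23Recog23
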