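import Cfsg.Agent.Lib.G23Recog23.Facts
import Mathlib.GroupTheory.Subgroup.Center

/-!
A group with an involution centraliser `(SL₂(3) ∘ SL₂(3)).2`, and the dictionary with the triples.
-/

set_option autoImplicit false

namespace Cfsg.Agent.Lib.G23Recog23

universe u

theorem nn_sq : nn * nn = (1 : SL23) := hom_SL23_two.1

theorem tw_mul (j : Bool) (a b : SL23) : tw j (a * b) = tw j a * tw j b := by
  cases j <;> simp [tw]

theorem tw_tw (i j : Bool) (a : SL23) : tw i (tw j a) = tw (xor i j) a := by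
  cases i <;> cases j <;> simp [tw, conjR_props.2]

theorem tw_nn (j : Bool) : tw j nn = nn := by cases j <;> simp [tw, conjR_props.1]

/-- The centraliser of `z = e₁ nn` is the group of the triples, `z` is fused to the outer and to an inner
involution. -/
structure Setup (G : Type u) [Group G] where
  e₁ : SL23 →* G
  e₂ : SL23 →* G
  t : G
  comm : ∀ a b, e₁ a * e₂ b = e₂ b * e₁ a
  nn_eq : e₁ nn = e₂ nn
  tt : t * t = 1
  tconj₁ : ∀ a, t * e₁ a * t = e₁ (conjR a)
  tconj₂ : ∀ a, t * e₂ a * t = e₂ (conjR a)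
  surj : ∀ g : G, g * e₁ nn = e₁ nn * g → ∃ p : Tri, e₁ p.1 * e₂ p.2.1 * (if p.2.2 then t else 1) = g
  kernel : ∀ p : Tri, e₁ p.1 * e₂ p.2.1 * (if p.2.2 then t else 1) = 1 → Same tone p
  fused : ∃ g, g * e₁ nn * g⁻¹ = t
  fusedInner : ∃ g, g * e₁ nn * g⁻¹ = e₁ jj * e₂ jj

namespace Setup

variable {G : Type u} [Group G] (S : Setup G)

/-- The element of a triple. -/
def Φ (p : Tri) : G := S.e₁ p.1 * S.e₂ p.2.1 * (if p.2.2 then S.t else 1)

/-- The central involution. -/
def z : G := S.e₁ nn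

theorem t_e₁ (j : Bool) (a : SL23) :
    (if j then S.t else 1) * S.e₁ a = S.e₁ (tw j a) * (if j then S.t else 1) := by
  cases j
  · simp [tw]
  · simp only [tw, if_true, ← S.tconj₁, mul_assoc, S.tt, mul_one]

theorem t_e₂ (j : Bool) (a : SL23) :
    (if j then S.t else 1) * S.e₂ a = S.e₂ (tw j a) * (if j then S.t else 1) := by
  cases j
  · simp [tw]
  · simp only [tw, if_true, ← S.tconj₂, mul_assoc, S.tt, mul_one]

theorem map_mul' (p q : Tri) : S.Φ (tmul p q) = S.Φ p * S.Φ q := by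
  obtain ⟨a, b, i⟩ := p
  obtain ⟨c, d, j⟩ := q
  change S.e₁ (a * tw i c) * S.e₂ (b * tw i d) * (if xor i j then S.t else 1) = _
  simp only [Φ, map_mul]
  have hij : (if i then S.t else 1) * (if j then S.t else 1) = if xor i j then S.t else 1 := by
    cases i <;> cases j <;> simp [S.tt]
  rw [← hij]
  calc S.e₁ a * S.e₁ (tw i c) * (S.e₂ b * S.e₂ (tw i d)) * ((if i then S.t else 1) * (if j then S.t else 1))
      = S.e₁ a * (S.e₁ (tw i c) * S.e₂ b) * (S.e₂ (tw i d) * (if i then S.t else 1)) * (if j then S.t else 1) := by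
        group
    _ = S.e₁ a * (S.e₂ b * S.e₁ (tw i c)) * ((if i then S.t else 1) * S.e₂ d) * (if j then S.t else 1) := by
        rw [S.comm, S.t_e₂]
    _ = S.e₁ a * S.e₂ b * (S.e₁ (tw i c) * (if i then S.t else 1)) * S.e₂ d * (if j then S.t else 1) := by group
    _ = S.e₁ a * S.e₂ b * ((if i then S.t else 1) * S.e₁ c) * S.e₂ d * (if j then S.t else 1) := by rw [S.t_e₁]
    _ = _ := by group

@[simp] theorem map_one' : S.Φ tone = 1 := by simp [Φ, tone]

theorem map_neg (p : Tri) : S.Φ (tneg p) = S.Φ p := by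
  have h : S.e₁ nn * S.e₁ nn = 1 := by rw [← map_mul, nn_sq, map_one]
  simp only [Φ, tneg, map_mul]
  calc S.e₁ nn * S.e₁ p.1 * (S.e₂ nn * S.e₂ p.2.1) * (if p.2.2 then S.t else 1)
      = S.e₁ nn * (S.e₁ p.1 * S.e₂ nn) * S.e₂ p.2.1 * (if p.2.2 then S.t else 1) := by group
    _ = (S.e₁ nn * S.e₂ nn) * S.e₁ p.1 * S.e₂ p.2.1 * (if p.2.2 then S.t else 1) := by rw [S.comm]; group
    _ = _ := by rw [← S.nn_eq, h, one_mul]

theorem map_inv' (p : Tri) : S.Φ (tinv p) = (S.Φ p)⁻¹ := by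
  refine eq_inv_of_mul_eq_one_right ?_
  rw [← S.map_mul']
  obtain ⟨a, b, j⟩ := p
  cases j <;> simp [tmul, tinv, Φ, tw, conjR_props.2]

theorem map_conj (g p : Tri) : S.Φ (tconj g p) = S.Φ g * S.Φ p * (S.Φ g)⁻¹ := by
  rw [tconj, S.map_mul', S.map_mul', S.map_inv']

theorem eq_of_same {p q : Tri} (h : Same p q) : S.Φ p = S.Φ q := by
  rcases h with h | h <;> rw [h]
  rw [S.map_neg]

theorem same_of_eq {p q : Tri} (h : S.Φ p = S.Φ q) : Same p q := by
  have h1 : S.Φ (tmul (tinv p) q) = 1 := by rw [S.map_mul', S.map_inv', h, inv_mul_cancel]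
  obtain ⟨a, b, i⟩ := p
  obtain ⟨c, d, j⟩ := q
  rcases S.kernel _ h1 with h2 | h2 <;> simp only [tmul, tinv, tone, tneg, Prod.ext_iff] at h2
  · left
    obtain ⟨h3, h4, h5⟩ := h2
    have hij : j = i := by cases i <;> cases j <;> simp_all
    subst hij
    rw [← tw_mul] at h3 h4
    have one : tw j 1 = 1 := by cases j <;> simp [tw]
    have idf : ∀ x : SL23, tw false x = x := fun _ => rfl
    have e := congrArg (tw j) h3; have e' := congrArg (tw j) h4
    rw [tw_tw, Bool.xor_self, idf, one, inv_mul_eq_one] at e e'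
    rw [e, e']
  · right
    obtain ⟨h3, h4, h5⟩ := h2
    have hij : j = i := by cases i <;> cases j <;> simp_all
    subst hij
    simp only [mul_one] at h3 h4
    rw [← tw_mul] at h3 h4
    have e := congrArg (tw j) h3; have e' := congrArg (tw j) h4
    rw [tw_tw, tw_nn, Bool.xor_self, show ∀ x : SL23, tw false x = x from fun _ => rfl,
      inv_mul_eq_iff_eq_mul] at e e'
    rw [hom_SL23_two.2.2] at e e'
    simp only [tneg, e, e']

theorem eq_iff {p q : Tri} : S.Φ p = S.Φ q ↔ Same p q := ⟨S.same_of_eq, S.eq_of_same⟩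

theorem comm_iff {p q : Tri} : S.Φ p * S.Φ q = S.Φ q * S.Φ p ↔ TComm p q := by
  rw [← S.map_mul', ← S.map_mul', S.eq_iff]; rfl

theorem z_eq : S.z = S.Φ (nn, 1, false) := by simp [z, Φ]

theorem t_eq : S.t = S.Φ (1, 1, true) := by simp [Φ]

theorem e₁_eq (a : SL23) : S.e₁ a = S.Φ (a, 1, false) := by simp [Φ]

theorem e₂_eq (a : SL23) : S.e₂ a = S.Φ (1, a, false) := by simp [Φ]

theorem exists_tri {g : G} (h : g * S.z = S.z * g) : ∃ p, S.Φ p = g := S.surj g h

theorem comm_z (p : Tri) : S.Φ p * S.z = S.z * S.Φ p := by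
  rw [S.z_eq, S.comm_iff]
  obtain ⟨a, b, j⟩ := p
  left
  cases j <;> simp [tmul, hom_SL23_two.2.2, tw, conjR_props.1]

end Setup

end Cfsg.Agent.Lib.G23Recog23
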