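import Cfsg.Agent.Lib.G23Recog23.Local
import Cfsg.Agent.Lib.G23Recog23.Setup

/-!
From the hypotheses on `H₁`, `H₂` and `M` to the coordinates of the involution centraliser: an involution outside
`H₁H₂` is a conjugate in `M` of an involution of `O₂(H)`, and acts on both factors as `diag(1, -1)`.
-/

set_option autoImplicit false
set_option linter.unusedSectionVars false

namespace Cfsg.Agent.Lib.G23Recog23

universe u

variable {G : Type u} [Group G]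

theorem center_iff (a : SL23) : (∀ b, a * b = b * a) ↔ a = 1 ∨ a = nn :=
  ⟨fun h => center_SL23 a (h _) (h _), by rintro (rfl | rfl) b <;> simp [hom_SL23_two.2.2]⟩

/-- An automorphism of order at most two inverting the quotient by `Q₈` is a conjugate of `conjR`. -/
theorem exists_conj_conjR (α : SL23 → SL23) (hm : ∀ a b, α (a * b) = α a * α b) (hinv : ∀ a, α (α a) = a)
    (a : SL23) (ha : a * a * a = 1) (ha1 : a ≠ 1) (hout : InQ (α a * a)) :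
    ∃ c : SL23, ∀ x, α (c * x * c⁻¹) = c * conjR x * c⁻¹ := by
  let f : SL23 →* SL23 := MonoidHom.mk' α hm
  have hQ : ∀ q, InQ q → InQ (α q) := fun q hq => by
    show f q * f q * (f q * f q) = 1
    rw [← map_mul, ← map_mul, show q * q * (q * q) = 1 from hq, map_one]
  have hU : α uu * α uu * α uu = 1 := by
    show f uu * f uu * f uu = 1
    rw [← map_mul, ← map_mul, uu_three.1, map_one]
  have hV : α vv * α vv * α vv = 1 := by
    show f vv * f vv * f vv = 1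
    rw [← map_mul, ← map_mul, uu_three.2, map_one]
  have hUu : InQ (α uu * uu) := by
    rcases (order_three_cases a ha ha1).2 with hq | hq
    · refine ((outer_uu (α uu) _ _ hU hq (hQ _ hq)).1 ?_)
      rw [inv_mul_cancel_right, ← hm, inv_mul_cancel_right]; exact hout
    · refine ((outer_uu (α uu) _ _ hU hq (hQ _ hq)).2 ?_)
      rw [inv_mul_cancel_right, ← hm uu uu, ← hm, inv_mul_cancel_right]; exact hout
  have hb : α uu * (α vv)⁻¹ * α uu = (α vv)⁻¹ * α uu * (α vv)⁻¹ := by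
    show f uu * (f vv)⁻¹ * f uu = (f vv)⁻¹ * f uu * (f vv)⁻¹
    rw [← map_inv, ← map_mul, ← map_mul, ← map_mul, ← map_mul, braid_uv]
  have hw : ∀ w, wmap (α uu) (α vv) w = α (wmap uu vv w) := fun w => by
    show wmap (f uu) (f vv) w = f _
    simp [wmap, map_mul, map_pow]
  obtain ⟨c, hc1, hc2⟩ := aut_conj (α uu) (α vv) hU hV hb (by simpa [InQ] using hUu)
    (fun w e => by rw [hw, e, hinv]) (fun w e => by rw [hw, e, hinv])
  refine ⟨c, fun x => ?_⟩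
  let g : SL23 →* SL23 := (MulAut.conj c).toMonoidHom.comp (conjR.toMonoidHom.comp (MulAut.conj c⁻¹).toMonoidHom)
  have hg : ∀ y, g y = c * conjR (c⁻¹ * y * c) * c⁻¹ := fun y => by simp [g]
  have key : ∀ y, f y = g y := fun y => by
    obtain ⟨i, j, k, l, rfl⟩ := gen_word y
    simp only [map_mul, map_pow, show f uu = g uu from hc1.trans (hg _).symm,
      show f vv = g vv from hc2.trans (hg _).symm]
  have := key (c * x * c⁻¹)
  rw [hg] at this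
  simpa [mul_assoc, f] using this

/-- Two groups `SL₂(3)` normalising each other and meeting in a central subgroup of order two commute. -/
theorem factors_commute {H H₁ H₂ : Subgroup G} (h1 : H₁ ≤ H) (h2 : H₂ ≤ H) (hn1 : (H₁.subgroupOf H).Normal)
    (hn2 : (H₂.subgroupOf H).Normal) {z : G} (hz : ∀ g ∈ H₁, g ∈ H₂ → g = 1 ∨ g = z)
    (hzc : ∀ b ∈ H₂, z * b = b * z) (hzz : z * z = 1) (f₂ : H₂ ≃* SL23) :
    ∀ a ∈ H₁, ∀ b ∈ H₂, a * b = b * a := by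
  intro a ha b hb
  have conj1 : ∀ g ∈ H, ∀ x ∈ H₁, g * x * g⁻¹ ∈ H₁ := fun g hg x hx =>
    Subgroup.mem_subgroupOf.1 (hn1.conj_mem ⟨x, h1 hx⟩ (Subgroup.mem_subgroupOf.2 hx) ⟨g, hg⟩)
  have conj2 : ∀ g ∈ H, ∀ x ∈ H₂, g * x * g⁻¹ ∈ H₂ := fun g hg x hx =>
    Subgroup.mem_subgroupOf.1 (hn2.conj_mem ⟨x, h2 hx⟩ (Subgroup.mem_subgroupOf.2 hx) ⟨g, hg⟩)
  have three : ∀ g ∈ H₂, g * g * g = 1 → a * g = g * a := by
    intro g hg hg3
    rcases hz (a * g * a⁻¹ * g⁻¹)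
        (by rw [mul_assoc, mul_assoc, ← mul_assoc g]; exact mul_mem ha (conj1 g (h2 hg) _ (inv_mem ha)))
        (mul_mem (conj2 a (h1 ha) g hg) (inv_mem hg)) with h | h
    · exact mul_inv_eq_iff_eq_mul.1 (mul_inv_eq_one.1 h)
    · have e : a * g * a⁻¹ = z * g := mul_inv_eq_iff_eq_mul.1 h
      have hzg := hzc g hg
      have e3 : a * (g * g * g) * a⁻¹ = z := by
        calc a * (g * g * g) * a⁻¹ = (a * g * a⁻¹) * (a * g * a⁻¹) * (a * g * a⁻¹) := by group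
          _ = z * (g * z) * (g * z) * g := by rw [e]; group
          _ = (z * z) * z * (g * g * g) := by rw [← hzg]; calc
              z * (z * g) * (z * g) * g = z * z * (g * z) * g * g := by group
              _ = _ := by rw [← hzg]; group
          _ = z := by rw [hzz, hg3]; simp
      rw [hg3, mul_one, mul_inv_cancel] at e3
      rw [← e3, one_mul] at e
      exact mul_inv_eq_iff_eq_mul.1 e
  obtain ⟨i, j, k, l, hw⟩ := gen_word (f₂ ⟨b, hb⟩)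
  have hu : Commute a ((f₂.symm uu : H₂) : G) := three _ (f₂.symm uu).2 (by
    rw [← Subgroup.coe_mul, ← Subgroup.coe_mul, ← map_mul, ← map_mul, uu_three.1, map_one, Subgroup.coe_one])
  have hv : Commute a ((f₂.symm vv : H₂) : G) := three _ (f₂.symm vv).2 (by
    rw [← Subgroup.coe_mul, ← Subgroup.coe_mul, ← map_mul, ← map_mul, uu_three.2, map_one, Subgroup.coe_one])
  have hb' : b = ((f₂.symm uu : H₂) : G) ^ (i : ℕ) * ((f₂.symm vv : H₂) : G) ^ (j : ℕ) *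
      ((f₂.symm uu : H₂) : G) ^ (k : ℕ) * ((f₂.symm vv : H₂) : G) ^ (l : ℕ) := by
    have := congrArg (fun x => ((f₂.symm x : H₂) : G)) hw
    simpa using this
  rw [hb']
  exact ((((hu.pow_right _).mul_right (hv.pow_right _)).mul_right (hu.pow_right _)).mul_right (hv.pow_right _)).eq

/-- The coordinates before `t` is adjusted. -/
structure Pre (G : Type u) [Group G] where
  H : Subgroup G
  f₁ : SL23 →* G
  f₂ : SL23 →* G
  i₁ : Function.Injective f₁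
  i₂ : Function.Injective f₂
  comm : ∀ a b, f₁ a * f₂ b = f₂ b * f₁ a
  nn_eq : f₁ nn = f₂ nn
  meet : ∀ a b, f₁ a = f₂ b → a = 1 ∧ b = 1 ∨ a = nn ∧ b = nn
  mem_H : ∀ g, g ∈ H ↔ g * f₁ nn = f₁ nn * g
  conj₁ : ∀ g ∈ H, ∀ a, ∃ b, g * f₁ a * g⁻¹ = f₁ b
  conj₂ : ∀ g ∈ H, ∀ a, ∃ b, g * f₂ a * g⁻¹ = f₂ b
  two : ∀ g ∈ H, ∀ h ∈ H, (∀ a b, g ≠ f₁ a * f₂ b) → (∀ a b, h ≠ f₁ a * f₂ b) → ∃ a b, g * h = f₁ a * f₂ b
  small : Nat.card H ≤ 1152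

theorem exists_pre [Finite G] (H H₁ H₂ : Subgroup G) (h1 : H₁ ≤ H) (h2 : H₂ ≤ H) (hn1 : (H₁.subgroupOf H).Normal)
    (hn2 : (H₂.subgroupOf H).Normal) (hiso1 : Nonempty (↥H₁ ≃* SL23)) (hiso2 : Nonempty (↥H₂ ≃* SL23))
    (hidx : (H₁ ⊔ H₂).relIndex H = 2) (hint1 : H₁ ⊓ H₂ = H₁ ⊓ Subgroup.centralizer (H₁ : Set G))
    (hint2 : H₁ ⊓ H₂ = H₂ ⊓ Subgroup.centralizer (H₂ : Set G))
    (hHC : H = Subgroup.centralizer ((H₁ ⊓ H₂ : Subgroup G) : Set G)) :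
    ∃ P : Pre G, P.H = H ∧ ∀ g ∈ H₁ ⊓ H₂, g = 1 ∨ g = P.f₁ nn ∧ P.f₁ nn ∈ H₁ ⊓ H₂ := by
  obtain ⟨φ₁⟩ := hiso1
  obtain ⟨φ₂⟩ := hiso2
  let f₁ : SL23 →* G := H₁.subtype.comp φ₁.symm.toMonoidHom
  let f₂ : SL23 →* G := H₂.subtype.comp φ₂.symm.toMonoidHom
  have m₁ : ∀ a, f₁ a ∈ H₁ := fun a => (φ₁.symm a).2
  have m₂ : ∀ a, f₂ a ∈ H₂ := fun a => (φ₂.symm a).2
  have s₁ : ∀ g ∈ H₁, ∃ a, f₁ a = g := fun g hg => ⟨φ₁ ⟨g, hg⟩, by simp [f₁]⟩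
  have s₂ : ∀ g ∈ H₂, ∃ a, f₂ a = g := fun g hg => ⟨φ₂ ⟨g, hg⟩, by simp [f₂]⟩
  have i₁ : Function.Injective f₁ := fun a b h => φ₁.symm.injective (Subtype.ext h)
  have i₂ : Function.Injective f₂ := fun a b h => φ₂.symm.injective (Subtype.ext h)
  have c₁ : ∀ a, f₁ a ∈ H₁ ⊓ H₂ ↔ a = 1 ∨ a = nn := fun a => by
    rw [hint1, Subgroup.mem_inf, Subgroup.mem_centralizer_iff, ← center_iff]
    refine ⟨fun h b => i₁ ?_, fun h => ⟨m₁ a, fun g hg => ?_⟩⟩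
    · rw [map_mul, map_mul, h.2 _ (m₁ b)]
    · obtain ⟨b, rfl⟩ := s₁ g hg
      rw [← map_mul, ← map_mul, h b]
  have c₂ : ∀ a, f₂ a ∈ H₁ ⊓ H₂ ↔ a = 1 ∨ a = nn := fun a => by
    rw [hint2, Subgroup.mem_inf, Subgroup.mem_centralizer_iff, ← center_iff]
    refine ⟨fun h b => i₂ ?_, fun h => ⟨m₂ a, fun g hg => ?_⟩⟩
    · rw [map_mul, map_mul, h.2 _ (m₂ b)]
    · obtain ⟨b, rfl⟩ := s₂ g hg
      rw [← map_mul, ← map_mul, h b]
  have hz1 : f₁ nn ∈ H₁ ⊓ H₂ := (c₁ nn).2 (Or.inr rfl)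
  have nn_eq : f₁ nn = f₂ nn := by
    obtain ⟨b, hb⟩ := s₂ _ hz1.2
    rcases (c₂ b).1 (hb ▸ hz1) with rfl | rfl
    · rw [map_one] at hb
      exact absurd (i₁ (hb.symm.trans (map_one f₁).symm)) hom_SL23_two.2.1
    · exact hb.symm
  have hI : ∀ g ∈ H₁ ⊓ H₂, g = 1 ∨ g = f₁ nn := by
    intro g hg
    obtain ⟨a, rfl⟩ := s₁ g hg.1
    rcases (c₁ a).1 hg with rfl | rfl
    · exact Or.inl (map_one _)
    · exact Or.inr rfl
  have hcomm : ∀ a b, f₁ a * f₂ b = f₂ b * f₁ a := fun a b =>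
    factors_commute h1 h2 hn1 hn2 (fun g hg hg' => hI g ⟨hg, hg'⟩) (fun b hb => by
        obtain ⟨c, rfl⟩ := s₂ b hb
        rw [nn_eq, ← map_mul, ← map_mul, hom_SL23_two.2.2])
      (by rw [← map_mul, nn_sq, map_one]) φ₂ _ (m₁ a) _ (m₂ b)
  have memH : ∀ g, g ∈ H ↔ g * f₁ nn = f₁ nn * g := fun g => by
    rw [hHC, Subgroup.mem_centralizer_iff]
    refine ⟨fun h => (h _ hz1).symm, fun h x hx => ?_⟩
    rcases hI x hx with rfl | rfl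
    · simp
    · exact h.symm
  let Ψ : SL23 × SL23 →* G := f₁.noncommCoprod f₂ fun a b => hcomm a b
  have hΨ : H₁ ⊔ H₂ = Ψ.range := by
    refine le_antisymm (sup_le (fun g hg => ?_) (fun g hg => ?_)) ?_
    · obtain ⟨a, rfl⟩ := s₁ g hg; exact ⟨(a, 1), (MonoidHom.noncommCoprod_apply f₁ f₂ _ _).trans (by simp)⟩
    · obtain ⟨a, rfl⟩ := s₂ g hg; exact ⟨(1, a), (MonoidHom.noncommCoprod_apply f₁ f₂ _ _).trans (by simp)⟩
    · rintro _ ⟨⟨a, b⟩, rfl⟩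
      exact mul_mem (Subgroup.mem_sup_left (m₁ a)) (Subgroup.mem_sup_right (m₂ b))
  have hJ : H₁ ⊔ H₂ ≤ H := sup_le h1 h2
  have hidx' : ((H₁ ⊔ H₂).subgroupOf H).index = 2 := hidx
  refine ⟨⟨H, f₁, f₂, i₁, i₂, hcomm, nn_eq, ?_, memH, ?_, ?_, ?_, ?_⟩, rfl, fun g hg =>
    (hI g hg).imp id fun h => ⟨h, hz1⟩⟩
  · intro a b h
    have ha : f₁ a ∈ H₁ ⊓ H₂ := ⟨m₁ a, h ▸ m₂ b⟩
    rcases (c₁ a).1 ha with rfl | rfl
    · exact Or.inl ⟨rfl, i₂ (by rw [← h, map_one, map_one])⟩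
    · exact Or.inr ⟨rfl, i₂ (by rw [← h, nn_eq])⟩
  · intro g hg a
    obtain ⟨b, hb⟩ := s₁ _ (Subgroup.mem_subgroupOf.1
      (hn1.conj_mem ⟨f₁ a, h1 (m₁ a)⟩ (Subgroup.mem_subgroupOf.2 (m₁ a)) ⟨g, hg⟩))
    exact ⟨b, hb.symm⟩
  · intro g hg a
    obtain ⟨b, hb⟩ := s₂ _ (Subgroup.mem_subgroupOf.1
      (hn2.conj_mem ⟨f₂ a, h2 (m₂ a)⟩ (Subgroup.mem_subgroupOf.2 (m₂ a)) ⟨g, hg⟩))
    exact ⟨b, hb.symm⟩
  · intro g hg h hh hgn hhn
    have nm : ∀ x ∈ H₁ ⊔ H₂, ∃ a b, x = f₁ a * f₂ b := fun x hx => by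
      rw [hΨ] at hx
      obtain ⟨⟨a, b⟩, rfl⟩ := hx
      exact ⟨a, b, rfl⟩
    have hn : ∀ x (hx : x ∈ H), (∀ a b, x ≠ f₁ a * f₂ b) → (⟨x, hx⟩ : H) ∉ (H₁ ⊔ H₂).subgroupOf H :=
      fun x hx hne hm => by
        obtain ⟨a, b, e⟩ := nm x (Subgroup.mem_subgroupOf.1 hm)
        exact hne a b e
    have := (Subgroup.mul_mem_iff_of_index_two hidx' (a := ⟨g, hg⟩) (b := ⟨h, hh⟩)).2
      (iff_of_false (hn g hg hgn) (hn h hh hhn))
    exact nm _ (Subgroup.mem_subgroupOf.1 this)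
  · have hr : Nat.card Ψ.range ≤ 576 := by
      have := Nat.card_le_card_of_surjective Ψ.rangeRestrict Ψ.rangeRestrict_surjective
      rwa [Nat.card_prod, Nat.card_eq_fintype_card (α := SL23), card_SL23] at this
    have := Subgroup.card_mul_index ((H₁ ⊔ H₂).subgroupOf H)
    rw [hidx', Nat.card_congr (Subgroup.subgroupOfEquivOfLe hJ).toEquiv, hΨ] at this
    omega

/-- The element of a pair. -/
def Pre.ψ (P : Pre G) (p : SL23 × SL23) : G := P.f₁ p.1 * P.f₂ p.2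

namespace Pre

variable (P : Pre G)

theorem ψ_mul (p q : SL23 × SL23) : P.ψ p * P.ψ q = P.ψ (p * q) := by
  simp only [ψ, Prod.fst_mul, Prod.snd_mul, map_mul]
  calc P.f₁ p.1 * P.f₂ p.2 * (P.f₁ q.1 * P.f₂ q.2) = P.f₁ p.1 * (P.f₂ p.2 * P.f₁ q.1) * P.f₂ q.2 := by group
    _ = P.f₁ p.1 * (P.f₁ q.1 * P.f₂ p.2) * P.f₂ q.2 := by rw [P.comm]
    _ = _ := by group

theorem ψ_inv (p : SL23 × SL23) : (P.ψ p)⁻¹ = P.ψ p⁻¹ := by
  refine inv_eq_of_mul_eq_one_right ?_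
  rw [P.ψ_mul, mul_inv_cancel]; simp [ψ]

theorem ψ_one {p : SL23 × SL23} (h : P.ψ p = 1) : p = (1, 1) ∨ p = (nn, nn) := by
  have e : P.f₁ p.1 = P.f₂ p.2⁻¹ := by rw [map_inv]; exact eq_inv_of_mul_eq_one_left h
  rcases P.meet _ _ e with ⟨h1, h2⟩ | ⟨h1, h2⟩
  · exact Or.inl (Prod.ext h1 (inv_eq_one.1 h2))
  · refine Or.inr (Prod.ext h1 ?_)
    rw [inv_eq_iff_eq_inv] at h2
    rw [h2]; exact inv_eq_of_mul_eq_one_right nn_sq

theorem ψ_eq {p q : SL23 × SL23} (h : P.ψ p = P.ψ q) : q = p ∨ q = (nn * p.1, nn * p.2) := by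
  rcases P.ψ_one (p := p⁻¹ * q) (by rw [← P.ψ_mul, ← P.ψ_inv, h, inv_mul_cancel]) with e | e
  · exact Or.inl (inv_mul_eq_one.1 e).symm
  · refine Or.inr ((inv_mul_eq_iff_eq_mul.1 e).trans (Prod.ext ?_ ?_))
    · exact hom_SL23_two.2.2 _
    · exact hom_SL23_two.2.2 _

theorem ψ_mem (p : SL23 × SL23) : P.ψ p ∈ P.H := by
  rw [P.mem_H]
  have e : P.f₁ nn = P.ψ (nn, 1) := by simp [ψ]
  rw [e, P.ψ_mul, P.ψ_mul]
  congr 1
  ext1 <;> simp [hom_SL23_two.2.2]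

theorem sq_pair {g : G} (hg : g ∈ P.H) : ∃ p, g * g = P.ψ p := by
  by_cases h : ∃ a b, g = P.f₁ a * P.f₂ b
  · obtain ⟨a, b, rfl⟩ := h
    exact ⟨_, P.ψ_mul (a, b) (a, b)⟩
  · obtain ⟨a, b, e⟩ := P.two g hg g hg (fun a b e => h ⟨a, b, e⟩) (fun a b e => h ⟨a, b, e⟩)
    exact ⟨(a, b), e⟩

theorem comm_pair {g h : G} (hg : g ∈ P.H) (hh : h ∈ P.H) : ∃ p, g * h * g⁻¹ * h⁻¹ = P.ψ p := by
  obtain ⟨p, hp⟩ := P.sq_pair hg
  obtain ⟨q, hq⟩ := P.sq_pair (mul_mem (inv_mem hg) hh)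
  obtain ⟨r, hr⟩ := P.sq_pair (inv_mem hh)
  refine ⟨p * q * r, ?_⟩
  rw [← P.ψ_mul, ← P.ψ_mul, ← hp, ← hq, ← hr]; group

theorem pair_of_odd {g : G} (hg : g ∈ P.H) (h3 : g * g * g = 1) : ∃ p, g = P.ψ p ∧ p * p * p = 1 := by
  obtain ⟨p, hp⟩ := P.sq_pair hg
  have hp' : g = P.ψ (p * p) := by
    rw [← P.ψ_mul, ← hp]
    calc g = g * (g * g * g) := by rw [h3, mul_one]
      _ = _ := by group
  have h1 : P.ψ (p * p * (p * p) * (p * p)) = 1 := by rw [← P.ψ_mul, ← P.ψ_mul, ← hp', h3]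
  rcases P.ψ_one h1 with e | e
  · exact ⟨p * p, hp', e⟩
  · refine ⟨(nn * (p * p).1, nn * (p * p).2), ?_, ?_⟩
    · have : P.ψ (nn, nn) = 1 := by
        simp only [ψ]; rw [← P.nn_eq, ← map_mul, nn_sq, map_one]
      conv_lhs => rw [hp', ← one_mul (P.ψ (p * p)), ← this, P.ψ_mul]
      rfl
    · have e1 := congrArg Prod.fst e; have e2 := congrArg Prod.snd e
      exact Prod.ext (cube_cases _ e1) (cube_cases _ e2)

theorem invol_Q {p : SL23 × SL23} (h : P.ψ p * P.ψ p = 1) : InQ p.1 ∧ InQ p.2 := by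
  rw [P.ψ_mul] at h
  refine inv_Q (p.1, p.2, false) rfl ?_
  rcases P.ψ_one h with e | e <;> [left; right] <;>
    simp [tmul, tw, tone, tneg, Prod.ext_iff] at e ⊢ <;> simp [e.1, e.2, nn_sq]

end Pre

end Cfsg.Agent.Lib.G23Recog23
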