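import Cfsg.Agent.Lib.G23Recog23.Start

/-!
The involution outside `H₁H₂` and the fusion of involutions in `M`.
-/

set_option autoImplicit false
set_option linter.unusedSectionVars false

namespace Cfsg.Agent.Lib.G23Recog23

universe u

variable {G : Type u} [Group G] [Finite G]

theorem Q_comm : ∀ x y : SL23, InQ x → InQ y → x * y = y * x ∨ x * y = nn * (y * x) := by decide +kernel

namespace Pre

variable (P : Pre G)

theorem f_nn_eq : P.f₁ nn = P.ψ (nn, 1) := by simp [ψ]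

theorem f_nn_eq' : P.f₁ nn = P.ψ (1, nn) := by simp [ψ, P.nn_eq]

theorem ψ_nn : P.ψ (nn, nn) = 1 := by
  simp only [ψ]; rw [← P.nn_eq, ← map_mul, nn_sq, map_one]

/-- An involution of `H₁H₂` other than `1`, `z` has both parts of order four. -/
theorem inner {p : SL23 × SL23} (h2 : P.ψ p * P.ψ p = 1) (h1 : P.ψ p ≠ 1) (hz : P.ψ p ≠ P.f₁ nn) :
    p.1 * p.1 = nn ∧ p.2 * p.2 = nn := by
  rw [P.ψ_mul] at h2
  have hs : Same (tmul (p.1, p.2, false) (p.1, p.2, false)) tone := by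
    rcases P.ψ_one h2 with e | e <;> [left; right] <;>
      simp [tmul, tw, tone, tneg, Prod.ext_iff] at e ⊢ <;> simp [e.1, e.2, nn_sq]
  rcases inner_invol _ _ hs with h | h | h
  · rcases h with h | h <;> simp [tone, tneg, Prod.ext_iff] at h
    · exact absurd (by simp [ψ, ← h.1, ← h.2]) h1
    · exfalso; apply h1
      have e1 : p.1 = nn := by
        calc p.1 = nn * (nn * p.1) := by rw [← mul_assoc, nn_sq, one_mul]
          _ = nn := by rw [← h.1, mul_one]
      have e2 : p.2 = nn := by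
        calc p.2 = nn * (nn * p.2) := by rw [← mul_assoc, nn_sq, one_mul]
          _ = nn := by rw [← h.2, mul_one]
      rw [show p = (nn, nn) from Prod.ext e1 e2, P.ψ_nn]
  · rcases h with h | h <;> simp [tneg, Prod.ext_iff] at h
    · exact absurd (by rw [P.f_nn_eq, h.1, h.2]) hz
    · exfalso; apply hz
      have e1 : p.1 = 1 := h.1
      have e2 : p.2 = nn := by
        calc p.2 = nn * (nn * p.2) := by rw [← mul_assoc, nn_sq, one_mul]
          _ = nn := by rw [← h.2, mul_one]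
      rw [P.f_nn_eq', show p = (1, nn) from Prod.ext e1 e2]
  · exact ⟨h.2.2.1, h.2.2.2⟩

end Pre

theorem exists_setup (P : Pre G) {M E : Subgroup G} (hE : Eight M E) (hzE : P.f₁ nn ∈ E) :
    Nonempty (Setup G) := by
  classical
  have hz1 : P.f₁ nn ≠ 1 := fun h => hom_SL23_two.2.1 (P.i₁ (h.trans (map_one _).symm))
  set z := P.f₁ nn with hzdef
  obtain ⟨e, f, B⟩ := hE.exists_basis hzE hz1
  have inv : ∀ g ∈ E, g⁻¹ = g := fun g hg => inv_eq_of_mul_eq_one_right (hE.sq g hg)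
  have memH : ∀ g, g * z = z * g → g ∈ P.H := fun g hg => (P.mem_H g).2 hg
  have EH : ∀ g ∈ E, g ∈ P.H := fun g hg => memH g (hE.comm g hg z hzE)
  have cz : cw z e f (true, false, false) = z := by simp [cw]
  have ce : cw z e f (false, true, false) = e := by simp [cw]
  have cf : cw z e f (false, false, true) = f := by simp [cw]
  have cef : cw z e f (false, true, true) = e * f := by simp [cw]
  have c0 : cw z e f (false, false, false) = 1 := by simp [cw]
  have ne : ∀ p q : Bool × Bool × Bool, p ≠ q → cw z e f p ≠ cw z e f q := fun p q h h' => h (B.inj h')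
  -- an element of order three acting on E/⟨z⟩
  have By := Eight.Basis3.change hE B (true, false, false) (false, false, true) (false, true, true)
    (by decide +kernel)
  rw [cz, cf, cef] at By
  obtain ⟨y₀, hy₀M, yz₀, ye₀, yf₀⟩ := hE.exists_mover B By
  have yef₀ : y₀ * (e * f) * y₀⁻¹ = e := by
    calc y₀ * (e * f) * y₀⁻¹ = (y₀ * e * y₀⁻¹) * (y₀ * f * y₀⁻¹) := by group
      _ = f * (e * f) := by rw [ye₀, yf₀]
      _ = e := by rw [hE.comm e B.hy f B.hw, ← mul_assoc, hE.sq f B.hw, one_mul]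
  have conj3 : ∀ g : G, y₀ * y₀ * y₀ * g * (y₀ * y₀ * y₀)⁻¹ = y₀ * (y₀ * (y₀ * g * y₀⁻¹) * y₀⁻¹) * y₀⁻¹ :=
    fun g => by group
  have y3 : y₀ * y₀ * y₀ ∈ E := by
    have hc : ∀ g : G, y₀ * y₀ * y₀ * g * (y₀ * y₀ * y₀)⁻¹ = g → Commute (y₀ * y₀ * y₀) g :=
      fun g h => mul_inv_eq_iff_eq_mul.1 h
    have hz' := hc z (by rw [conj3, yz₀, yz₀, yz₀])
    have he' := hc e (by rw [conj3, ye₀, yf₀, yef₀])
    have hf' := hc f (by rw [conj3, yf₀, yef₀, ye₀])
    refine hE.self _ (M.mul_mem (M.mul_mem hy₀M hy₀M) hy₀M) fun g hg => ?_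
    obtain ⟨⟨i, j, k⟩, rfl⟩ := hE.surj B hg
    have hi : ∀ (b : Bool) (x : G), Commute (y₀ * y₀ * y₀) x → Commute (y₀ * y₀ * y₀) (if b then x else 1) :=
      fun b x hx => by cases b <;> [exact Commute.one_right _; exact hx]
    exact (((hi i z hz').mul_right (hi j e he')).mul_right (hi k f hf')).eq
  set y := y₀ * (y₀ * y₀ * y₀) with hydef
  have yact : ∀ g ∈ E, y * g * y⁻¹ = y₀ * g * y₀⁻¹ := fun g hg => by
    rw [hydef, show y₀ * (y₀ * y₀ * y₀) * g * (y₀ * (y₀ * y₀ * y₀))⁻¹ =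
      y₀ * ((y₀ * y₀ * y₀) * g * (y₀ * y₀ * y₀)⁻¹) * y₀⁻¹ by group, hE.comm _ y3 g hg, mul_inv_cancel_right]
  have y333 : y * y * y = 1 := by
    have h2 := hE.sq _ y3
    calc y * y * y = ((y₀ * y₀ * y₀) * (y₀ * y₀ * y₀)) * ((y₀ * y₀ * y₀) * (y₀ * y₀ * y₀)) := by
          rw [hydef]; group
      _ = 1 := by rw [h2, one_mul]
  have yz : y * z * y⁻¹ = z := (yact z hzE).trans yz₀
  have ye : y * e * y⁻¹ = f := (yact e B.hy).trans ye₀
  have yf : y * f * y⁻¹ = e * f := (yact f B.hw).trans yf₀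
  have yH : y ∈ P.H := memH y (mul_inv_eq_iff_eq_mul.1 yz)
  obtain ⟨pfe, hpfe⟩ := P.comm_pair yH (EH e B.hy)
  rw [ye, inv e B.hy] at hpfe
  obtain ⟨pe, hpe⟩ := P.comm_pair yH (EH f B.hw)
  rw [yf, inv f B.hw, mul_assoc, hE.sq f B.hw, mul_one] at hpe
  obtain ⟨pf, hpf⟩ : ∃ p, f = P.ψ p := ⟨pfe * pe, by
    rw [← P.ψ_mul, ← hpfe, ← hpe, mul_assoc, hE.sq e B.hy, mul_one]⟩
  have he2 : P.ψ pe * P.ψ pe = 1 := by rw [← hpe]; exact hE.sq e B.hy
  obtain ⟨ea, eb⟩ := P.inner he2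
    (by rw [← hpe]; exact fun h => ne (false, true, false) (false, false, false) (by decide) (ce.trans (h.trans c0.symm)))
    (by rw [← hpe]; exact fun h => ne (false, true, false) (true, false, false) (by decide) (ce.trans (h.trans cz.symm)))
  obtain ⟨⟨a, b⟩, hyp, hy3⟩ := P.pair_of_odd yH y333
  have ha3 : a * a * a = 1 := congrArg Prod.fst hy3
  have hb3 : b * b * b = 1 := congrArg Prod.snd hy3
  have key : P.ψ ((a, b) * pe * (a, b)⁻¹ * pe⁻¹) = f * e := by
    rw [← P.ψ_mul, ← P.ψ_mul, ← P.ψ_mul, ← P.ψ_inv, ← P.ψ_inv, ← hyp, ← hpe, ye, inv e B.hy]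
  have fe_ne : f * e ≠ 1 ∧ f * e ≠ z := by
    rw [hE.comm f B.hw e B.hy, ← cef, ← c0]
    exact ⟨ne _ _ (by decide), fun h => ne (false, true, true) (true, false, false) (by decide) (h.trans cz.symm)⟩
  have hfe2 : (f * e) * (f * e) = 1 := hE.sq _ (mul_mem B.hw B.hy)
  have ha1 : a ≠ 1 := by
    rintro rfl
    obtain ⟨h1, -⟩ := P.inner (p := (1, b) * pe * ((1 : SL23), b)⁻¹ * pe⁻¹) (by rw [key]; exact hfe2)
      (by rw [key]; exact fe_ne.1) (by rw [key]; exact fe_ne.2)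
    simp at h1
    exact hom_SL23_two.2.1 h1.symm
  have hb1 : b ≠ 1 := by
    rintro rfl
    obtain ⟨-, h2⟩ := P.inner (p := (a, 1) * pe * (a, (1 : SL23))⁻¹ * pe⁻¹) (by rw [key]; exact hfe2)
      (by rw [key]; exact fe_ne.1) (by rw [key]; exact fe_ne.2)
    simp at h2
    exact hom_SL23_two.2.1 h2.symm
  -- an involution of Q moving e
  obtain ⟨c, hc, hcQ, hca⟩ := partner pe.1 ea
  set q := P.ψ (c, pe.2) with hqdef
  have hq2 : q * q = 1 := by
    rw [hqdef, P.ψ_mul, Prod.mk_mul_mk, hc, eb, P.ψ_nn]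
  have qe : q * e * q⁻¹ = z * e := by
    rw [mul_inv_eq_iff_eq_mul, hpe, hzdef, P.f_nn_eq, hqdef, P.ψ_mul, P.ψ_mul, P.ψ_mul]
    congr 1
    exact Prod.ext (by simp [hca, mul_assoc]) (by simp)
  have qz : q * z * q⁻¹ = z := by
    rw [mul_inv_eq_iff_eq_mul]; exact (P.mem_H q).1 (P.ψ_mem _)
  have hfQ := P.invol_Q (p := pf) (by rw [← hpf]; exact hE.sq f B.hw)
  have heQ := P.invol_Q he2
  have qf : q * f * q⁻¹ = f ∨ q * f * q⁻¹ = z * f := by
    simp only [mul_inv_eq_iff_eq_mul]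
    rw [hpf, hzdef, P.f_nn_eq, hqdef, P.ψ_mul, P.ψ_mul, P.ψ_mul, P.ψ_mul]
    have nz : ∀ x : SL23 × SL23, P.ψ (nn * x.1, nn * x.2) = P.ψ x := fun x => by
      conv_rhs => rw [← one_mul (P.ψ x), ← P.ψ_nn, P.ψ_mul]
      rfl
    rcases Q_comm c pf.1 hcQ hfQ.1 with h1 | h1 <;> rcases Q_comm pe.2 pf.2 heQ.2 hfQ.2 with h2 | h2
    · left; congr 1; exact Prod.ext h1 h2
    · right; rw [← nz]; congr 1
      exact Prod.ext (by simp [h1, ← mul_assoc, nn_sq]) (by simp [h2, ← mul_assoc, nn_sq])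
    · right; congr 1; exact Prod.ext (by simpa [mul_assoc] using h1) (by simpa using h2)
    · left; rw [← nz]; congr 1
      exact Prod.ext (by simp [h1, ← mul_assoc, nn_sq]) (by simp [h2, ← mul_assoc, nn_sq])
  obtain ⟨pp, Bq, qp⟩ : ∃ pp, Basis3 E pp z e ∧ q * pp * q⁻¹ = pp := by
    rcases qf with h | h
    · have := Eight.Basis3.change hE B (false, false, true) (true, false, false) (false, true, false)
        (by decide +kernel)
      rw [cf, cz, ce] at this
      exact ⟨f, this, h⟩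
    · have := Eight.Basis3.change hE B (false, true, true) (true, false, false) (false, true, false)
        (by decide +kernel)
      rw [cef, cz, ce] at this
      refine ⟨e * f, this, ?_⟩
      calc q * (e * f) * q⁻¹ = (q * e * q⁻¹) * (q * f * q⁻¹) := by group
        _ = (z * e) * (z * f) := by rw [qe, h]
        _ = (z * z) * (e * f) := by rw [mul_assoc, ← mul_assoc e, hE.comm e B.hy z hzE]; group
        _ = e * f := by rw [hE.sq z hzE, one_mul]
  obtain ⟨m, -, mp, mz, me⟩ := hE.exists_mover Bq B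
  set t := m * q * m⁻¹ with htdef
  have tt : t * t = 1 := by
    rw [htdef, show m * q * m⁻¹ * (m * q * m⁻¹) = m * (q * q) * m⁻¹ by group, hq2, mul_one, mul_inv_cancel]
  have ti : t⁻¹ = t := inv_eq_of_mul_eq_one_right tt
  have tm : ∀ x : G, t * (m * x * m⁻¹) * t⁻¹ = m * (q * x * q⁻¹) * m⁻¹ := fun x => by rw [htdef]; group
  have tz : t * z * t⁻¹ = z := by
    have := tm pp; rwa [mp, qp, mp] at this
  have te : t * e * t⁻¹ = e := by
    have := tm z; rwa [mz, qz, mz] at this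
  have tf : t * f * t⁻¹ = e * f := by
    have := tm e
    rw [me, qe] at this
    rw [this, show m * (z * e) * m⁻¹ = (m * z * m⁻¹) * (m * e * m⁻¹) by group, mz, me]
  have tH : t ∈ P.H := memH t (mul_inv_eq_iff_eq_mul.1 tz)
  have tout : ∀ a b, t ≠ P.f₁ a * P.f₂ b := by
    intro a' b' h
    change t = P.ψ (a', b') at h
    have hQ := P.invol_Q (p := (a', b')) (by rw [← h]; exact tt)
    have tf' : t * f = f * t ∨ t * f = z * (f * t) := by
      rw [h, hpf, hzdef, P.f_nn_eq, P.ψ_mul, P.ψ_mul, P.ψ_mul]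
      have nz : ∀ x : SL23 × SL23, P.ψ (nn * x.1, nn * x.2) = P.ψ x := fun x => by
        conv_rhs => rw [← one_mul (P.ψ x), ← P.ψ_nn, P.ψ_mul]
        rfl
      rcases Q_comm a' pf.1 hQ.1 hfQ.1 with h1 | h1 <;> rcases Q_comm b' pf.2 hQ.2 hfQ.2 with h2 | h2
      · left; congr 1; exact Prod.ext h1 h2
      · right; rw [← nz]; congr 1
        exact Prod.ext (by simp [h1, ← mul_assoc, nn_sq]) (by simp [h2, ← mul_assoc, nn_sq])
      · right; congr 1; exact Prod.ext (by simpa using h1) (by simpa using h2)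
      · left; rw [← nz]; congr 1
        exact Prod.ext (by simp [h1, ← mul_assoc, nn_sq]) (by simp [h2, ← mul_assoc, nn_sq])
    rw [mul_inv_eq_iff_eq_mul] at tf
    rcases tf' with h' | h' <;> rw [tf] at h'
    · exact ne (false, true, false) (false, false, false) (by decide)
        (by rw [ce, c0]; exact mul_right_cancel (b := f) (by rw [one_mul]; exact mul_right_cancel h'))
    · exact ne (false, true, false) (true, false, false) (by decide)
        (by rw [ce, cz]; exact mul_right_cancel (b := f) (mul_right_cancel (b := t) (by rw [h', mul_assoc])))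
  -- the automorphisms induced by t
  choose α hα using P.conj₁ t tH
  choose β hβ using P.conj₂ t tH
  have tψ : ∀ p : SL23 × SL23, t * P.ψ p * t⁻¹ = P.ψ (α p.1, β p.2) := fun p => by
    simp only [Pre.ψ]; rw [← hα, ← hβ]; group
  have αm : ∀ a b, α (a * b) = α a * α b := fun a b => P.i₁ (by rw [map_mul, ← hα, ← hα, ← hα, map_mul]; group)
  have βm : ∀ a b, β (a * b) = β a * β b := fun a b => P.i₂ (by rw [map_mul, ← hβ, ← hβ, ← hβ, map_mul]; group)
  have αi : ∀ a, α (α a) = a := fun a => P.i₁ (by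
    rw [← hα, ← hα, show t * (t * P.f₁ a * t⁻¹) * t⁻¹ = (t * t) * P.f₁ a * (t * t)⁻¹ by group, tt]; group)
  have βi : ∀ a, β (β a) = a := fun a => P.i₂ (by
    rw [← hβ, ← hβ, show t * (t * P.f₂ a * t⁻¹) * t⁻¹ = (t * t) * P.f₂ a * (t * t)⁻¹ by group, tt]; group)
  have prod_e : P.ψ ((α a * a, β b * b) * pe) = P.ψ (pe * (α a * a, β b * b)) := by
    have hp : P.ψ (α a * a, β b * b) = t * y * t⁻¹ * y := by
      rw [hyp, tψ, P.ψ_mul]; rfl
    rw [← P.ψ_mul, ← P.ψ_mul, hp, ← hpe, ← mul_inv_eq_iff_eq_mul]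
    calc t * y * t⁻¹ * y * e * (t * y * t⁻¹ * y)⁻¹ = t * (y * (t⁻¹ * (y * e * y⁻¹) * t) * y⁻¹) * t⁻¹ := by group
      _ = t * (y * (t * f * t⁻¹) * y⁻¹) * t⁻¹ := by rw [ye, ti]
      _ = t * ((y * e * y⁻¹) * (y * f * y⁻¹)) * t⁻¹ := by rw [tf]; group
      _ = t * (f * (e * f)) * t⁻¹ := by rw [ye, yf]
      _ = t * e * t⁻¹ := by rw [hE.comm e B.hy f B.hw, ← mul_assoc f, hE.sq f B.hw, one_mul]
      _ = e := te
  have outer : InQ (α a * a) ∧ InQ (β b * b) := by
    have hcases := P.ψ_eq prod_e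
    constructor <;> by_contra hn
    · rcases fix_Q _ pe.1 hn heQ.1 (by
        rcases hcases with h | h <;> [left; right] <;> rw [mul_inv_eq_iff_eq_mul]
        · exact (congrArg Prod.fst h).symm
        · have := congrArg Prod.fst h
          simp at this
          rw [mul_assoc nn, this, ← mul_assoc nn, nn_sq, one_mul]) with e' | e' <;> rw [e'] at ea
      · simp at ea; exact hom_SL23_two.2.1 ea.symm
      · rw [nn_sq] at ea; exact hom_SL23_two.2.1 ea.symm
    · rcases fix_Q _ pe.2 hn heQ.2 (by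
        rcases hcases with h | h <;> [left; right] <;> rw [mul_inv_eq_iff_eq_mul]
        · exact (congrArg Prod.snd h).symm
        · have := congrArg Prod.snd h
          simp at this
          rw [mul_assoc nn, this, ← mul_assoc nn, nn_sq, one_mul]) with e' | e' <;> rw [e'] at eb
      · simp at eb; exact hom_SL23_two.2.1 eb.symm
      · rw [nn_sq] at eb; exact hom_SL23_two.2.1 eb.symm
  obtain ⟨c₁, hc₁⟩ := exists_conj_conjR α αm αi a ha3 ha1 outer.1
  obtain ⟨c₂, hc₂⟩ := exists_conj_conjR β βm βi b hb3 hb1 outer.2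
  let e₁ : SL23 →* G := P.f₁.comp (MulAut.conj c₁).toMonoidHom
  let e₂ : SL23 →* G := P.f₂.comp (MulAut.conj c₂).toMonoidHom
  have he₁ : ∀ x, e₁ x = P.f₁ (c₁ * x * c₁⁻¹) := fun x => by simp [e₁]
  have he₂ : ∀ x, e₂ x = P.f₂ (c₂ * x * c₂⁻¹) := fun x => by simp [e₂]
  have cnn : ∀ d : SL23, d * nn * d⁻¹ = nn := fun d => by rw [hom_SL23_two.2.2, mul_inv_cancel_right]
  have back : ∀ a b, P.f₁ a * P.f₂ b = e₁ (c₁⁻¹ * a * c₁) * e₂ (c₂⁻¹ * b * c₂) := fun a b => by
    rw [he₁, he₂]; congr 2 <;> group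
  -- all involutions of H₁H₂ other than z are conjugates of z
  have inner_fused : ∀ u v : SL23, u * u = nn → v * v = nn → ∃ g, g * z * g⁻¹ = P.ψ (u, v) := by
    intro u v hu hv
    have Be := Eight.Basis3.change hE B (false, true, false) (false, false, true) (true, false, false)
      (by decide +kernel)
    rw [ce, cf, cz] at Be
    obtain ⟨n, -, nz, -, -⟩ := hE.exists_mover B Be
    obtain ⟨u₁, hu₁⟩ := conj_four _ ea
    obtain ⟨v₁, hv₁⟩ := conj_four _ eb
    obtain ⟨u₂, hu₂⟩ := conj_four u hu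
    obtain ⟨v₂, hv₂⟩ := conj_four v hv
    refine ⟨P.ψ (u₂⁻¹ * u₁, v₂⁻¹ * v₁) * n, ?_⟩
    rw [show ∀ g : G, g * n * z * (g * n)⁻¹ = g * (n * z * n⁻¹) * g⁻¹ from fun g => by group, nz, hpe,
      P.ψ_inv, P.ψ_mul, P.ψ_mul]
    congr 1
    ext1
    · simp only [Prod.fst_mul, Prod.fst_inv]
      rw [show u₂⁻¹ * u₁ * pe.1 * (u₂⁻¹ * u₁)⁻¹ = u₂⁻¹ * (u₁ * pe.1 * u₁⁻¹) * u₂ by group, hu₁, ← hu₂]; group
    · simp only [Prod.snd_mul, Prod.snd_inv]
      rw [show v₂⁻¹ * v₁ * pe.2 * (v₂⁻¹ * v₁)⁻¹ = v₂⁻¹ * (v₁ * pe.2 * v₁⁻¹) * v₂ by group, hv₁, ← hv₂]; group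
  refine ⟨⟨e₁, e₂, t, fun a b => by rw [he₁, he₂]; exact P.comm _ _,
    by rw [he₁, he₂, cnn, cnn]; exact P.nn_eq, tt,
    fun a => by rw [he₁, he₁]; nth_rw 2 [← ti]; rw [hα, hc₁],
    fun a => by rw [he₂, he₂]; nth_rw 2 [← ti]; rw [hβ, hc₂], ?_, ?_, ?_, ?_⟩⟩
  · intro g hg
    rw [he₁, cnn] at hg
    have gH : g ∈ P.H := memH g hg
    by_cases h : ∃ a b, g = P.f₁ a * P.f₂ b
    · obtain ⟨a, b, rfl⟩ := h
      exact ⟨(c₁⁻¹ * a * c₁, c₂⁻¹ * b * c₂, false), by simp [back]⟩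
    · obtain ⟨a, b, e'⟩ := P.two g gH t tH (fun a b e => h ⟨a, b, e⟩) tout
      refine ⟨(c₁⁻¹ * a * c₁, c₂⁻¹ * b * c₂, true), ?_⟩
      simp only [if_true]
      rw [← back, ← e', mul_assoc, tt, mul_one]
  · rintro ⟨a', b', _ | _⟩ h
    · simp only [Bool.false_eq_true, if_false, mul_one, he₁, he₂] at h
      have undo : ∀ d x w : SL23, d * x * d⁻¹ = w → x = d⁻¹ * w * d := by rintro d x w rfl; group
      rcases P.ψ_one (p := (_, _)) h with e' | e' <;> [left; right] <;>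
        simp only [Prod.mk.injEq] at e' <;> rw [undo _ _ _ e'.1, undo _ _ _ e'.2]
      · simp [tone]
      · simp [tone, tneg, show ∀ d : SL23, d⁻¹ * nn * d = nn from fun d => by
          rw [mul_assoc, ← hom_SL23_two.2.2 d, inv_mul_cancel_left]]
    · exfalso
      simp only [if_true, he₁, he₂] at h
      have := eq_inv_of_mul_eq_one_right h
      change t = (P.ψ (_, _))⁻¹ at this
      rw [P.ψ_inv] at this
      exact tout _ _ this
  · obtain ⟨g, hg⟩ := inner_fused c pe.2 hc eb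
    refine ⟨m * g, ?_⟩
    rw [he₁, cnn, show m * g * P.f₁ nn * (m * g)⁻¹ = m * (g * P.f₁ nn * g⁻¹) * m⁻¹ by group, hg]
  · obtain ⟨g, hg⟩ := inner_fused (c₁ * jj * c₁⁻¹) (c₂ * jj * c₂⁻¹)
      (by rw [show c₁ * jj * c₁⁻¹ * (c₁ * jj * c₁⁻¹) = c₁ * (jj * jj) * c₁⁻¹ by group,
        show jj * jj = nn by decide +kernel, cnn])
      (by rw [show c₂ * jj * c₂⁻¹ * (c₂ * jj * c₂⁻¹) = c₂ * (jj * jj) * c₂⁻¹ by group,
        show jj * jj = nn by decide +kernel, cnn])
    exact ⟨g, by rw [he₁, cnn, hg, he₁, he₂]; rfl⟩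

end Cfsg.Agent.Lib.G23Recog23
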